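import Groth.Agent.Lib.Tame.Lattice
import Mathlib.Algebra.Module.LocalizedModule.Exact
import Mathlib.Algebra.Module.LocalizedModule.Submodule
import Mathlib.RingTheory.LocalRing.ResidueField.Ideal
import Mathlib.RingTheory.SimpleModule.Basic

/-!
# Lengths of localisations of finite-length modules
-/

set_option autoImplicit false

universe u

open IsLocalRing

namespace Groth.Agent.Lib.Tame.LocLen

variable {B : Type u} [CommRing B] (p : Ideal B) [p.IsPrime]

/-- The length of the localisation at `p`. -/
noncomputable def locLen (M : Type u) [AddCommGroup M] [Module B M] : ℕ∞ :=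
  Module.length (Localization.AtPrime p) (LocalizedModule p.primeCompl M)

variable {M N P : Type u} [AddCommGroup M] [Module B M] [AddCommGroup N] [Module B N] [AddCommGroup P] [Module B P]

theorem locLen_add {f : M →ₗ[B] N} {g : N →ₗ[B] P} (hf : Function.Injective f) (hg : Function.Surjective g)
    (he : Function.Exact f g) : locLen p N = locLen p M + locLen p P :=
  Module.length_eq_add_of_exact (LocalizedModule.map p.primeCompl f) (LocalizedModule.map p.primeCompl g)
    (LocalizedModule.map_injective _ f hf) (LocalizedModule.map_surjective _ g hg)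
    (LocalizedModule.map_exact _ f g he)

theorem locLen_eq_of_isLocalizedModule [Module (Localization.AtPrime p) N] [IsScalarTower B (Localization.AtPrime p) N]
    (f : M →ₗ[B] N) [IsLocalizedModule p.primeCompl f] :
    locLen p M = Module.length (Localization.AtPrime p) N :=
  LinearEquiv.length_eq ((IsLocalizedModule.iso p.primeCompl f).extendScalarsOfIsLocalization p.primeCompl
    (Localization.AtPrime p))

theorem locLen_congr (e : M ≃ₗ[B] N) : locLen p M = locLen p N := by
  have h := locLen_add (P := N ⧸ LinearMap.range e.toLinearMap) p e.injective (Submodule.mkQ_surjective _)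
    ((LinearMap.exact_iff).2 (Submodule.ker_mkQ _))
  have hz : locLen p (N ⧸ LinearMap.range e.toLinearMap) = 0 := by
    have : Subsingleton (N ⧸ LinearMap.range e.toLinearMap) :=
      Submodule.Quotient.subsingleton_iff.2 (LinearMap.range_eq_top.2 e.surjective)
    exact Module.length_eq_zero_iff.2 (LocalizedModule.subsingleton_iff.2 fun m => ⟨1, one_mem _, Subsingleton.elim _ _⟩)
  rw [h, hz, add_zero]

theorem locLen_eq_zero_of_smul {s : B} (hs : s ∉ p) (h : ∀ m : M, s • m = 0) : locLen p M = 0 :=
  Module.length_eq_zero_iff.2 (LocalizedModule.subsingleton_iff.2 fun m => ⟨s, hs, h m⟩)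

theorem locLen_subsingleton [Subsingleton M] : locLen p M = 0 :=
  locLen_eq_zero_of_smul p (s := 1) (fun h => ‹p.IsPrime›.ne_top (p.eq_top_iff_one.2 h)) fun _ => Subsingleton.elim _ _

section Algebra

variable {B' : Type u} [CommRing B'] [Algebra B B'] (q : Ideal B') [q.IsMaximal] [p.IsMaximal] [q.LiesOver p]

attribute [local instance] Localization.AtPrime.algebraOfLiesOver

theorem finite_residueField [Module.Finite B B'] : Module.Finite p.ResidueField q.ResidueField := by
  have : Module.Finite B q.ResidueField :=
    Module.Finite.of_surjective ((Algebra.linearMap B' q.ResidueField).restrictScalars B) fun y => by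
      obtain ⟨x, rfl⟩ := (Ideal.bijective_algebraMap_quotient_residueField q).2 y
      obtain ⟨b, rfl⟩ := Ideal.Quotient.mk_surjective x
      exact ⟨b, rfl⟩
  exact Module.Finite.of_restrictScalars_finite B p.ResidueField q.ResidueField

/-- The localised simple module has length the residue degree. -/
theorem locLen_quotient_eq_finrank [Module.Finite B B'] :
    locLen p (B' ⧸ q) = (Module.finrank p.ResidueField q.ResidueField : ℕ∞) := by
  have := finite_residueField p q
  let f : (B' ⧸ q) →ₗ[B] q.ResidueField :=
    ((Algebra.linearMap (B' ⧸ q) q.ResidueField).restrictScalars B)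
  have hb : Function.Bijective f := Ideal.bijective_algebraMap_quotient_residueField q
  have : IsLocalizedModule p.primeCompl f := by
    refine ⟨fun s => ?_, fun y => ?_, fun {x y} h => ⟨1, by rw [hb.1 h]⟩⟩
    · have hs : IsUnit (algebraMap B p.ResidueField s) := by
        rw [isUnit_iff_ne_zero, Ne, Ideal.algebraMap_residueField_eq_zero]
        exact s.2
      rw [Module.End.isUnit_iff]
      have hne : algebraMap B q.ResidueField s ≠ 0 := by
        rw [IsScalarTower.algebraMap_apply B p.ResidueField q.ResidueField]
        exact fun h0 => hs.ne_zero ((map_eq_zero _).1 h0)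
      refine ⟨fun x y e => ?_, fun y => ⟨(algebraMap B q.ResidueField s)⁻¹ * y, ?_⟩⟩
      · simp only [Module.algebraMap_end_apply, Algebra.smul_def] at e
        exact mul_left_cancel₀ hne e
      · simp only [Module.algebraMap_end_apply, Algebra.smul_def]
        rw [← mul_assoc, mul_inv_cancel₀ hne, one_mul]
    · obtain ⟨x, rfl⟩ := hb.2 y
      exact ⟨⟨x, 1⟩, one_smul _ _⟩
  rw [locLen_eq_of_isLocalizedModule p f,
    Module.length_eq_of_surjective (R := p.ResidueField) (S := Localization.AtPrime p) residue_surjective,
    Module.length_eq_finrank]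

end Algebra

theorem exists_equiv_quotient_of_isSimpleModule {R : Type u} [CommRing R] {M : Type u} [AddCommGroup M] [Module R M]
    [IsSimpleModule R M] : ∃ m : Ideal R, m.IsMaximal ∧ Nonempty (M ≃ₗ[R] R ⧸ m) :=
  isSimpleModule_iff_quot_maximal.1 inferInstance

section Self

theorem locLen_self [p.IsMaximal] : locLen p (B ⧸ p) = 1 := by
  let f : (B ⧸ p) →ₗ[B] p.ResidueField :=
    (Algebra.linearMap (B ⧸ p) p.ResidueField).restrictScalars B
  have hb : Function.Bijective f := Ideal.bijective_algebraMap_quotient_residueField p
  have : IsLocalizedModule p.primeCompl f := by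
    refine ⟨fun s => ?_, fun y => ?_, fun {x y} h => ⟨1, by rw [hb.1 h]⟩⟩
    · have hne : algebraMap B p.ResidueField s ≠ 0 := by
        rw [Ne, Ideal.algebraMap_residueField_eq_zero]
        exact s.2
      rw [Module.End.isUnit_iff]
      refine ⟨fun x y e => ?_, fun y => ⟨(algebraMap B p.ResidueField s)⁻¹ * y, ?_⟩⟩
      · simp only [Module.algebraMap_end_apply, Algebra.smul_def] at e
        exact mul_left_cancel₀ hne e
      · simp only [Module.algebraMap_end_apply, Algebra.smul_def]
        rw [← mul_assoc, mul_inv_cancel₀ hne, one_mul]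
    · obtain ⟨x, rfl⟩ := hb.2 y
      exact ⟨⟨x, 1⟩, one_smul _ _⟩
  rw [locLen_eq_of_isLocalizedModule p f,
    Module.length_eq_of_surjective (R := p.ResidueField) (S := Localization.AtPrime p) residue_surjective,
    Module.length_eq_finrank, Module.finrank_self, Nat.cast_one]

/-- A finite-length module has finite local lengths. -/
theorem locLen_ne_top (hp : p.IsMaximal) (h : IsFiniteLength B M) : locLen p M ≠ ⊤ := by
  induction h with
  | of_subsingleton => rw [locLen_subsingleton]; exact ENat.zero_ne_top
  | @of_simple_quotient M _ _ N _ _ ih =>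
    rw [locLen_add p N.injective_subtype N.mkQ_surjective (LinearMap.exact_subtype_mkQ N)]
    refine WithTop.add_ne_top.2 ⟨ih, ?_⟩
    obtain ⟨m, hm, ⟨e⟩⟩ := exists_equiv_quotient_of_isSimpleModule (R := B) (M := M ⧸ N)
    rw [locLen_congr p e]
    by_cases hpm : p = m
    · subst hpm
      rw [locLen_self p]
      exact ENat.one_ne_top
    · obtain ⟨s, hs, hsp⟩ : ∃ s ∈ m, s ∉ p := by
        by_contra hne
        push Not at hne
        exact hpm ((hm.eq_of_le hp.ne_top hne).symm)
      rw [locLen_eq_zero_of_smul p hsp fun z => ?_]
      · exact ENat.zero_ne_top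
      · obtain ⟨b, rfl⟩ := Ideal.Quotient.mk_surjective z
        exact Ideal.Quotient.eq_zero_iff_mem.2 (m.mul_mem_right b hs)

end Self

section Sum

variable {B' : Type u} [CommRing B'] [Algebra B B']

attribute [local instance] Localization.AtPrime.algebraOfLiesOver

open Classical in
/-- The residue degree of `k` over `p` (zero if `k` does not lie over `p`). -/
noncomputable def resDeg (k : Ideal B') [k.IsPrime] : ℕ :=
  if _h : k.LiesOver p then Module.finrank p.ResidueField k.ResidueField else 0

variable [Module.Finite B B'] [Fintype (MaximalSpectrum B')] [p.IsMaximal]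

/-- The localised length is the weighted sum of the local lengths upstairs. -/
theorem locLen_eq_sum {M : Type u} [AddCommGroup M] [Module B' M] (hM : IsFiniteLength B' M) :
    ∀ [Module B M] [IsScalarTower B B' M], locLen p M = ∑ k : MaximalSpectrum B', (resDeg p k.asIdeal : ℕ∞) * locLen k.asIdeal M := by
  classical
  induction hM with
  | of_subsingleton => intro _ _; simp [locLen_subsingleton]
  | @of_simple_quotient M _ _ N _ _ ih =>
    intro _ _
    have h1 := locLen_add p (f := N.subtype.restrictScalars B) (g := N.mkQ.restrictScalars B)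
      N.injective_subtype N.mkQ_surjective (LinearMap.exact_subtype_mkQ N)
    have h2 := fun k : MaximalSpectrum B' => locLen_add k.asIdeal N.injective_subtype N.mkQ_surjective
      (LinearMap.exact_subtype_mkQ N)
    rw [h1, ih]
    simp only [h2, mul_add, Finset.sum_add_distrib]
    congr 1
    obtain ⟨m, hm, ⟨e⟩⟩ := exists_equiv_quotient_of_isSimpleModule (R := B') (M := M ⧸ N)
    rw [locLen_congr p (e.restrictScalars B), Finset.sum_congr rfl fun k _ => by rw [locLen_congr k.asIdeal e]]
    let q : MaximalSpectrum B' := ⟨m, hm⟩
    rw [Finset.sum_eq_single q]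
    · rw [show locLen q.asIdeal (B' ⧸ m) = 1 from locLen_self m, mul_one]
      show locLen p (B' ⧸ m) = (resDeg p m : ℕ∞)
      by_cases hl : m.LiesOver p
      · rw [resDeg, dif_pos hl, locLen_quotient_eq_finrank p m]
      · rw [resDeg, dif_neg hl, Nat.cast_zero]
        obtain ⟨s, hs, hsp⟩ : ∃ s, algebraMap B B' s ∈ m ∧ s ∉ p := by
          by_contra hne
          push Not at hne
          have : (m.comap (algebraMap B B')).IsMaximal := Ideal.isMaximal_comap_of_isIntegral_of_isMaximal m
          exact hl ⟨(this.eq_of_le (‹p.IsMaximal›).ne_top hne).symm⟩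
        refine locLen_eq_zero_of_smul p hsp fun z => ?_
        obtain ⟨b, rfl⟩ := Ideal.Quotient.mk_surjective z
        rw [Algebra.smul_def, IsScalarTower.algebraMap_apply B B' (B' ⧸ m),
          Ideal.Quotient.algebraMap_eq, ← map_mul]
        exact Ideal.Quotient.eq_zero_iff_mem.2 (m.mul_mem_right b hs)
    · intro k _ hk
      obtain ⟨s, hs, hsk⟩ : ∃ s ∈ m, s ∉ k.asIdeal := by
        by_contra hne
        push Not at hne
        exact hk (MaximalSpectrum.ext (hm.eq_of_le k.isMaximal.ne_top hne).symm)
      rw [locLen_eq_zero_of_smul k.asIdeal hsk fun z => ?_, mul_zero]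
      obtain ⟨b, rfl⟩ := Ideal.Quotient.mk_surjective z
      exact Ideal.Quotient.eq_zero_iff_mem.2 (m.mul_mem_right b hs)
    · exact fun h => absurd (Finset.mem_univ _) h

end Sum

section Quotient

/-- Localisation of `B / (x)`. -/
theorem locLen_quotient_span (x : B) :
    locLen p (B ⧸ Ideal.span {x}) = Ring.ord (Localization.AtPrime p) (algebraMap B (Localization.AtPrime p) x) := by
  let f : B →ₗ[B] Localization.AtPrime p := Algebra.linearMap B (Localization.AtPrime p)
  have : IsLocalizedModule p.primeCompl f := inferInstance
  rw [locLen_eq_of_isLocalizedModule p ((Ideal.span {x}).toLocalizedQuotient' (Localization.AtPrime p) p.primeCompl f)]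
  refine LinearEquiv.length_eq (Submodule.quotEquivOfEq _ _ ?_)
  change (Submodule.span B {x}).localized' (Localization.AtPrime p) p.primeCompl f = _
  rw [Submodule.localized'_span, Set.image_singleton]
  rfl

end Quotient

end Groth.Agent.Lib.Tame.LocLen
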