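import Groth.Agent.Lib.Tame.Lattice
import Mathlib.RingTheory.Nakayama
import Mathlib.RingTheory.Length
import Mathlib.LinearAlgebra.Dimension.Constructions

/-!
# Making a two-generated ideal principal by a finite extension inside `A[1/c]`
-/

set_option autoImplicit false

universe u

open IsLocalRing
open scoped Pointwise

namespace Groth.Agent.Lib.Tame.Blowup

open Lattice

variable {A : Type u} [CommRing A] [IsLocalRing A]

theorem map_le_jacobson (B : Type u) [CommRing B] [Algebra A B] [Module.Finite A B] :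
    (maximalIdeal A).map (algebraMap A B) ≤ Ideal.jacobson (⊥ : Ideal B) :=
  le_sInf fun q ⟨_, hq⟩ => Ideal.map_le_iff_le_comap.2 (@comap_eq_maximalIdeal A _ B _ _ _ _ q hq).ge

/-- A degree `k` element `y` of `I = (a, b)` with `I ^ (n + k) ≤ y I ^ n`. -/
theorem exists_reduction {B : Type u} [CommRing B] [Algebra A B] [Module.Finite A B] [IsNoetherianRing B]
    (a b : B) (n : ℕ) (μ : Fin (n + 1) → A) (hμ : ∃ i, μ i ∉ maximalIdeal A)
    (hrel : ∑ i, algebraMap A B (μ i) * (a ^ (i : ℕ) * b ^ (n - i)) ∈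
      (maximalIdeal A).map (algebraMap A B) * Ideal.span {a, b} ^ n) :
    ∃ (k : ℕ) (y : B), 0 < k ∧ y ∈ Ideal.span {a, b} ^ k ∧
      Ideal.span {a, b} ^ (n + k) ≤ Ideal.span {y} * Ideal.span {a, b} ^ n := by
  classical
  set I : Ideal B := Ideal.span {a, b} with hI
  set M : Ideal B := (maximalIdeal A).map (algebraMap A B) with hM
  have haI : a ∈ I := Ideal.subset_span (by simp)
  have hbI : b ∈ I := Ideal.subset_span (by simp)
  have hmon : ∀ p q, a ^ p * b ^ q ∈ I ^ (p + q) := fun p q => by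
    rw [pow_add]; exact Ideal.mul_mem_mul (Ideal.pow_mem_pow haI p) (Ideal.pow_mem_pow hbI q)
  let S : Finset (Fin (n + 1)) := Finset.univ.filter fun i => μ i ∉ maximalIdeal A
  have hS : S.Nonempty := let ⟨i, hi⟩ := hμ; ⟨i, Finset.mem_filter.2 ⟨Finset.mem_univ _, hi⟩⟩
  let d₀ := S.max' hS
  have hd₀ : μ d₀ ∉ maximalIdeal A := (Finset.mem_filter.1 (S.max'_mem hS)).2
  set d : ℕ := (d₀ : ℕ) with hd
  have hdn : d ≤ n := by omega
  let ν : ℕ → A := fun i => if h : i < n + 1 then μ ⟨i, h⟩ else 0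
  let f' : B := ∑ i ∈ Finset.range (d + 1), algebraMap A B (ν i) * (a ^ i * b ^ (d - i))
  let y : B := a * f' + b ^ (d + 1)
  have hf' : f' ∈ I ^ d := Submodule.sum_mem _ fun i hi => Ideal.mul_mem_left _ _ (by
    have := hmon i (d - i)
    rwa [Nat.add_sub_cancel' (Nat.lt_succ_iff.1 (Finset.mem_range.1 hi))] at this)
  have hy : y ∈ I ^ (d + 1) :=
    add_mem (by rw [pow_succ']; exact Ideal.mul_mem_mul haI hf') (Ideal.pow_mem_pow hbI _)
  -- `b ^ (n - d) * f'` is small
  have hsmall : b ^ (n - d) * f' ∈ M * I ^ n := by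
    have h2 : ∑ i, algebraMap A B (μ i) * (a ^ (i : ℕ) * b ^ (n - i)) =
        ∑ i ∈ Finset.range (n + 1), algebraMap A B (ν i) * (a ^ i * b ^ (n - i)) := by
      rw [← Fin.sum_univ_eq_sum_range (fun i => algebraMap A B (ν i) * (a ^ i * b ^ (n - i))) (n + 1)]
      exact Finset.sum_congr rfl fun i _ => by simp only [ν, dif_pos i.2, Fin.eta]
    rw [h2, ← Finset.sum_range_add_sum_Ico _ (show d + 1 ≤ n + 1 by omega)] at hrel
    have hhi : ∑ i ∈ Finset.Ico (d + 1) (n + 1), algebraMap A B (ν i) * (a ^ i * b ^ (n - i)) ∈ M * I ^ n := by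
      refine Submodule.sum_mem _ fun i hi => ?_
      rw [Finset.mem_Ico] at hi
      refine Ideal.mul_mem_mul (Ideal.mem_map_of_mem _ ?_) (by
        have := hmon i (n - i); rwa [Nat.add_sub_cancel' (by omega)] at this)
      simp only [ν, dif_pos hi.2]
      by_contra hmem
      have := S.le_max' ⟨i, hi.2⟩ (Finset.mem_filter.2 ⟨Finset.mem_univ _, hmem⟩)
      change (⟨i, hi.2⟩ : Fin (n + 1)) ≤ d₀ at this
      rw [Fin.le_iff_val_le_val] at this
      change i ≤ d at this
      omega
    have hlo : ∑ i ∈ Finset.range (d + 1), algebraMap A B (ν i) * (a ^ i * b ^ (n - i)) = b ^ (n - d) * f' := by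
      rw [Finset.mul_sum]
      refine Finset.sum_congr rfl fun i hi => ?_
      rw [Finset.mem_range] at hi
      rw [show n - i = (n - d) + (d - i) by omega, pow_add]
      ring
    rw [hlo] at hrel
    exact (Submodule.add_mem_iff_left _ hhi).1 hrel
  have hbn : b ^ (n + 1) ∈ Ideal.span {y} * I ^ (n - d) ⊔ M * I ^ (n + 1) := by
    have e : b ^ (n + 1) = y * b ^ (n - d) - a * (b ^ (n - d) * f') := by
      rw [show n + 1 = (d + 1) + (n - d) by omega, pow_add]
      simp only [y]; ring
    rw [e]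
    refine sub_mem (Submodule.mem_sup_left (Ideal.mul_mem_mul (Ideal.mem_span_singleton_self y)
      (Ideal.pow_mem_pow hbI _))) (Submodule.mem_sup_right ?_)
    rw [pow_succ', ← mul_assoc, mul_comm M I, mul_assoc]
    exact Ideal.mul_mem_mul haI hsmall
  -- the leading monomial
  have hlead : a ^ (d + 1) ∈ Ideal.span {y} ⊔ Ideal.span {b} * I ^ d := by
    have hu : IsUnit (ν d) := by
      simp only [ν, dif_pos (show d < n + 1 by omega)]
      simpa [mem_maximalIdeal] using hd₀
    obtain ⟨u, hu⟩ := hu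
    let r : B := ∑ i ∈ Finset.range d, algebraMap A B (ν i) * (a ^ (i + 1) * b ^ (d - 1 - i)) + b ^ d
    have hr : r ∈ I ^ d := by
      refine add_mem (Submodule.sum_mem _ fun i hi => Ideal.mul_mem_left _ _ ?_) (Ideal.pow_mem_pow hbI _)
      rw [Finset.mem_range] at hi
      have := hmon (i + 1) (d - 1 - i)
      rwa [show i + 1 + (d - 1 - i) = d by omega] at this
    have e : y = algebraMap A B (u : A) * a ^ (d + 1) + b * r := by
      simp only [y, f', r]
      rw [Finset.sum_range_succ, Nat.sub_self, pow_zero, hu, mul_add, mul_add, Finset.mul_sum, Finset.mul_sum]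
      rw [Finset.sum_congr rfl (g := fun i => b * (algebraMap A B (ν i) * (a ^ (i + 1) * b ^ (d - 1 - i))))
        fun i hi => by
          rw [Finset.mem_range] at hi
          rw [show d - i = (d - 1 - i) + 1 by omega, pow_succ, pow_succ]; ring]
      ring
    have : a ^ (d + 1) = algebraMap A B (↑u⁻¹ : A) * y - algebraMap A B (↑u⁻¹ : A) * (b * r) := by
      rw [e, mul_add, ← mul_assoc, ← map_mul, Units.inv_mul, map_one, one_mul, add_sub_cancel_right]
    rw [this]
    exact sub_mem (Submodule.mem_sup_left (Ideal.mul_mem_left _ _ (Ideal.mem_span_singleton_self y)))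
      (Submodule.mem_sup_right (Ideal.mul_mem_left _ _ (Ideal.mul_mem_mul (Ideal.mem_span_singleton_self b) hr)))
  have hpow : ∀ j, I ^ (j + 1) ≤ Ideal.span {a ^ (j + 1)} ⊔ Ideal.span {b} * I ^ j := by
    intro j
    induction j with
    | zero => rw [zero_add, pow_one, pow_one, pow_zero, mul_one, hI, Ideal.span_insert]
    | succ j ih =>
      rw [pow_succ I (j + 1)]
      refine (Ideal.mul_mono_left ih).trans ?_
      rw [Ideal.sup_mul, mul_assoc, ← pow_succ]
      refine sup_le ?_ le_sup_right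
      rw [hI, Ideal.span_insert, Ideal.mul_sup, Ideal.span_singleton_mul_span_singleton,
        Ideal.span_singleton_mul_span_singleton, ← pow_succ]
      refine sup_le le_sup_left (le_sup_of_le_right ?_)
      rw [Ideal.span_singleton_le_iff_mem, mul_comm (a ^ (j + 1)) b]
      refine Ideal.mul_mem_mul (Ideal.mem_span_singleton_self b) ?_
      rw [← Ideal.span_insert, ← hI]
      exact Ideal.pow_mem_pow haI _
  have hk : I ^ (d + 1) ≤ Ideal.span {y} ⊔ Ideal.span {b} * I ^ d :=
    (hpow d).trans (sup_le ((Ideal.span_singleton_le_iff_mem _).2 hlead) le_sup_right)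
  have hj : ∀ j, I ^ (d + 1 + j) ≤ Ideal.span {y} * I ^ j ⊔ Ideal.span {b ^ (j + 1)} * I ^ d := by
    intro j
    induction j with
    | zero => simpa using hk
    | succ j ih =>
      rw [← add_assoc, pow_succ]
      refine (Ideal.mul_mono_left ih).trans ?_
      rw [Ideal.sup_mul, mul_assoc, ← pow_succ, mul_assoc, ← pow_succ]
      refine sup_le le_sup_left ?_
      refine (Ideal.mul_mono_right hk).trans ?_
      rw [Ideal.mul_sup, mul_comm _ (Ideal.span {y}), ← mul_assoc]
      refine sup_le (le_sup_of_le_left (Ideal.mul_mono_right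
        ((Ideal.span_singleton_le_iff_mem _).2 (Ideal.pow_mem_pow hbI _)))) ?_
      rw [Ideal.span_singleton_mul_span_singleton, ← pow_succ]
      exact le_sup_right
  refine ⟨d + 1, y, d.succ_pos, hy, ?_⟩
  refine Submodule.le_of_le_smul_of_le_jacobson_bot (I := M) (IsNoetherian.noetherian _) (map_le_jacobson B) ?_
  rw [smul_eq_mul]
  conv_lhs => rw [show n + (d + 1) = d + 1 + n by omega]
  refine (hj n).trans (sup_le le_sup_left ?_)
  refine (Ideal.mul_mono_left ((Ideal.span_singleton_le_iff_mem _).2 hbn)).trans ?_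
  rw [Ideal.sup_mul, mul_assoc, ← pow_add, mul_assoc, ← pow_add, show n - d + d = n by omega,
    show n + 1 + d = n + (d + 1) by omega]

variable [IsNoetherianRing A] [Ring.KrullDimLE 1 A] {c : A} (hc : c ∈ nonZeroDivisors A) (hcm : c ∈ maximalIdeal A)
include hc

theorem exists_pow_eq_mul {B : Subalgebra A (L c)} (x : B) (hx : IsUnit (x : L c)) :
    ∃ (N : ℕ) (z : B), algebraMap A B (c ^ N) = x * z := by
  obtain ⟨u, hu⟩ := hx
  obtain ⟨n, a, h⟩ := IsLocalization.Away.surj c (↑u⁻¹ : L c)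
  refine ⟨n, algebraMap A B a, Subtype.ext ?_⟩
  change algebraMap A (L c) (c ^ n) = (x : L c) * algebraMap A (L c) a
  rw [← h, ← hu, ← mul_assoc, Units.mul_inv, one_mul, map_pow]

include hcm

theorem exists_relation {B : Subalgebra A (L c)} (hB : B.toSubmodule.FG) (a b : B) (ha : IsUnit (a : L c)) :
    ∃ (n : ℕ) (μ : Fin (n + 1) → A), (∃ i, μ i ∉ maximalIdeal A) ∧
      ∑ i, algebraMap A B (μ i) * (a ^ (i : ℕ) * b ^ (n - i)) ∈
        (maximalIdeal A).map (algebraMap A B) * Ideal.span {a, b} ^ n := by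
  have : Module.Finite A B := Module.Finite.iff_fg.2 hB
  set n := (Ring.ord A c).toNat with hn
  refine ⟨n, ?_⟩
  set I : Ideal B := Ideal.span {a, b} with hI
  let W : Submodule A B := (I ^ n).restrictScalars A
  let P : Submodule A (L c) := W.map B.val.toLinearMap
  have hPB : P ≤ B.toSubmodule := by rintro _ ⟨z, -, rfl⟩; exact z.2
  obtain ⟨N, z, hz⟩ := exists_pow_eq_mul hc (a ^ n) (by simpa using ha.pow n)
  have h1 : ∃ N : ℕ, algebraMap A (L c) (c ^ N) ∈ P := ⟨N, algebraMap A B (c ^ N),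
    by rw [hz]; exact Ideal.mul_mem_right _ _ (Ideal.pow_mem_pow (Ideal.subset_span (by simp)) n), rfl⟩
  have hxP : ∀ p ∈ P, algebraMap A (L c) c * p ∈ P := fun p hp => by
    rw [← Algebra.smul_def]; exact P.smul_mem c hp
  have hxB : ∀ p ∈ B.toSubmodule, algebraMap A (L c) c * p ∈ B.toSubmodule := fun p hp =>
    B.mul_mem (B.algebraMap_mem c) hp
  have key := length_quot_eq_of_le hc hB hPB h1 (algebraMap A (L c) c)
    (IsLocalization.Away.algebraMap_isUnit c) hxP hxB
  rw [show Module.length A (B.toSubmodule ⧸ LinearMap.range ((LinearMap.mulLeft A (algebraMap A (L c) c)).restrict hxB))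
      = qlen A (algebraMap A B c) from rfl,
    qlen_algebraMap hc hB (IsLocalization.Away.algebraMap_isUnit c)] at key
  let V := P ⧸ (maximalIdeal A • (⊤ : Submodule A P))
  have hlen : Module.length A V ≤ n := by
    rw [hn, ENat.coe_toNat (Ring.ord_ne_top hc), key]
    refine Module.length_le_of_surjective (Submodule.factor ?_) (Submodule.factor_surjective _)
    rintro _ ⟨p, rfl⟩
    have : (LinearMap.mulLeft A (algebraMap A (L c) c)).restrict hxP p = c • p := Subtype.ext (Algebra.smul_def c (p : L c)).symm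
    rw [this]
    exact Submodule.smul_mem_smul hcm trivial
  let : Field (A ⧸ maximalIdeal A) := Ideal.Quotient.field _
  have : Module.Finite A P := Module.Finite.iff_fg.2 ((IsNoetherian.noetherian W).map B.val.toLinearMap)
  have : Module.Finite ((A ⧸ maximalIdeal A)) V := Module.Finite.of_restrictScalars_finite A ((A ⧸ maximalIdeal A)) V
  have hrank : Module.finrank ((A ⧸ maximalIdeal A)) V ≤ n := by
    rw [Module.length_eq_of_surjective (R := (A ⧸ maximalIdeal A)) Ideal.Quotient.mk_surjective, Module.length_eq_finrank] at hlen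
    exact_mod_cast hlen
  have hm : ∀ i : Fin (n + 1), ((a ^ (i : ℕ) * b ^ (n - i) : B) : L c) ∈ P := fun i =>
    ⟨_, (by
      change a ^ (i : ℕ) * b ^ (n - i) ∈ I ^ n
      have h2 : a ^ (i : ℕ) * b ^ (n - i) ∈ I ^ ((i : ℕ) + (n - i)) := by
        rw [pow_add]
        exact Ideal.mul_mem_mul (Ideal.pow_mem_pow (Ideal.subset_span (by simp)) _)
          (Ideal.pow_mem_pow (Ideal.subset_span (by simp)) _)
      rwa [Nat.add_sub_cancel' (Nat.lt_succ_iff.1 i.2)] at h2), rfl⟩
  let v : Fin (n + 1) → V := fun i => Submodule.Quotient.mk ⟨_, hm i⟩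
  have hdep : ¬ LinearIndependent (A ⧸ maximalIdeal A) v := fun h => by
    have := h.fintype_card_le_finrank
    rw [Fintype.card_fin] at this
    omega
  obtain ⟨g, hg, i, hi⟩ := Fintype.not_linearIndependent_iff.1 hdep
  choose μ hμ using fun i => Ideal.Quotient.mk_surjective (g i)
  refine ⟨μ, ⟨i, fun h => hi (by rw [← hμ i, Ideal.Quotient.eq_zero_iff_mem.2 h])⟩, ?_⟩
  have hg' : ∑ i, μ i • v i = 0 := by
    rw [← hg]
    refine Finset.sum_congr rfl fun i _ => ?_
    rw [← hμ i]
    exact (IsScalarTower.algebraMap_smul (A ⧸ maximalIdeal A) (μ i) (v i)).symm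
  have hg' : (∑ i, μ i • (⟨_, hm i⟩ : P)) ∈ maximalIdeal A • (⊤ : Submodule A P) := by
    rw [← Submodule.Quotient.mk_eq_zero, ← Submodule.mkQ_apply, map_sum, ← hg']
    exact Finset.sum_congr rfl fun i _ => map_smul _ _ _
  have hsub : (maximalIdeal A • P : Submodule A (L c)) ≤
      (((maximalIdeal A).map (algebraMap A B) * I ^ n).restrictScalars A).map B.val.toLinearMap := by
    rw [Submodule.smul_le]
    rintro r hr _ ⟨w, hw, rfl⟩
    exact ⟨r • w, by rw [Algebra.smul_def]; exact Ideal.mul_mem_mul (Ideal.mem_map_of_mem _ hr) hw, map_smul _ _ _⟩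
  have h3 := hsub (show (∑ i, μ i • (⟨_, hm i⟩ : P) : P).1 ∈ maximalIdeal A • P from by
    have := Submodule.mem_map_of_mem (f := P.subtype) hg'
    rwa [Submodule.map_smul'', Submodule.map_top, Submodule.range_subtype] at this)
  obtain ⟨w, hw, hwe⟩ := h3
  suffices e : ∑ i, algebraMap A B (μ i) * (a ^ (i : ℕ) * b ^ (n - i)) = w by rw [e]; exact hw
  refine Subtype.ext (Eq.trans ?_ hwe.symm)
  simp [Algebra.smul_def]

/-- In a finite extension, the ideal generated by two elements becomes principal with coprime quotients. -/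
theorem exists_step {B : Subalgebra A (L c)} (hB : B.toSubmodule.FG) (a b : B) (ha : IsUnit (a : L c)) :
    ∃ (B' : Subalgebra A (L c)) (t a' b' : B'), B ≤ B' ∧ B'.toSubmodule.FG ∧
      (a : L c) = t * a' ∧ (b : L c) = t * b' ∧ Ideal.span {a', b'} = ⊤ := by
  classical
  have : Module.Finite A B := Module.Finite.iff_fg.2 hB
  have : IsNoetherianRing B := isNoetherian_of_tower A inferInstance
  obtain ⟨n, μ, hμ, hrel⟩ := exists_relation hc hcm hB a b ha
  obtain ⟨k, y, hk, hy, hred⟩ := exists_reduction a b n μ hμ hrel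
  set I : Ideal B := Ideal.span {a, b} with hI
  have haI : a ∈ I := Ideal.subset_span (by simp)
  have hbI : b ∈ I := Ideal.subset_span (by simp)
  obtain ⟨q, hq, hyq⟩ := Ideal.mem_span_singleton_mul.1 (hred (Ideal.pow_mem_pow haI (n + k)))
  have hyu : IsUnit (y : L c) := by
    have h : IsUnit ((y : L c) * q) := by
      have e : (y : L c) * q = (a : L c) ^ (n + k) := congrArg Subtype.val hyq
      rw [e]; exact ha.pow _
    exact isUnit_of_mul_isUnit_left h
  obtain ⟨Y, hY⟩ := hyu
  let C : Subalgebra A (L c) :=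
    { carrier := {x | ∀ p ∈ I ^ n, ∃ p' ∈ I ^ n, x * (p : L c) = p'}
      mul_mem' := fun {x x'} hx hx' p hp => by
        obtain ⟨p₁, hp₁, e₁⟩ := hx' p hp
        obtain ⟨p₂, hp₂, e₂⟩ := hx p₁ hp₁
        exact ⟨p₂, hp₂, by rw [mul_assoc, e₁, e₂]⟩
      add_mem' := fun {x x'} hx hx' p hp => by
        obtain ⟨p₁, hp₁, e₁⟩ := hx p hp
        obtain ⟨p₂, hp₂, e₂⟩ := hx' p hp
        exact ⟨p₁ + p₂, add_mem hp₁ hp₂, by rw [add_mul, e₁, e₂]; rfl⟩
      algebraMap_mem' := fun r p hp => ⟨algebraMap A B r * p, Ideal.mul_mem_left _ _ hp, rfl⟩ }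
  have hBC : B ≤ C := fun x hx p hp => ⟨⟨x, hx⟩ * p, Ideal.mul_mem_left _ _ hp, rfl⟩
  have hfrac : ∀ g ∈ I ^ k, (g : L c) * ↑Y⁻¹ ∈ C := fun g hg p hp => by
    obtain ⟨p', hp', e⟩ := Ideal.mem_span_singleton_mul.1 (hred (by
      rw [add_comm, pow_add]; exact Ideal.mul_mem_mul hg hp))
    refine ⟨p', hp', ?_⟩
    have e' : (y : L c) * p' = g * p := congrArg Subtype.val e
    rw [mul_right_comm, ← e', ← hY, mul_comm (Y : L c), mul_assoc, Units.mul_inv, mul_one]
  have hC : C.toSubmodule.FG := by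
    obtain ⟨U, hU⟩ := ha.pow n
    have : Module.Finite A (B.toSubmodule.map (LinearMap.mulLeft A (↑U⁻¹ : L c))) := Module.Finite.iff_fg.2 (hB.map _)
    have hle : C.toSubmodule ≤ B.toSubmodule.map (LinearMap.mulLeft A (↑U⁻¹ : L c)) := fun x hx => by
      obtain ⟨p', -, e⟩ := hx (a ^ n) (Ideal.pow_mem_pow haI n)
      refine ⟨p', p'.2, ?_⟩
      change ↑U⁻¹ * (p' : L c) = x
      rw [← e, SubmonoidClass.coe_pow, ← hU, mul_comm x, ← mul_assoc, Units.inv_mul, one_mul]
    exact Submodule.FG.of_le (hB.map _) hle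
  obtain ⟨k, rfl⟩ : ∃ k', k = k' + 1 := ⟨k - 1, by omega⟩
  rw [pow_succ', hI, Ideal.span_insert, Ideal.sup_mul] at hy
  obtain ⟨u, hu, v, hv, huv⟩ := Submodule.mem_sup.1 hy
  obtain ⟨p, hp, rfl⟩ := Ideal.mem_span_singleton_mul.1 hu
  obtain ⟨p', hp', rfl⟩ := Ideal.mem_span_singleton_mul.1 hv
  rw [← Ideal.span_insert, ← hI] at hp hp'
  have hz : ∀ q ∈ I ^ k, ∀ e ∈ I, ((q : L c) * ↑Y⁻¹) * e ∈ C := fun q hq e he => by
    rw [mul_right_comm]; exact hfrac (q * e) (by rw [pow_succ]; exact Ideal.mul_mem_mul hq he)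
  set z : L c := (p : L c) * ↑Y⁻¹
  set z' : L c := (p' : L c) * ↑Y⁻¹
  have hone : z * a + z' * b = 1 := by
    have e : (a : L c) * p + b * p' = Y := hY ▸ congrArg Subtype.val huv
    calc z * a + z' * b = ((a : L c) * p + b * p') * ↑Y⁻¹ := by simp only [z, z']; ring
      _ = 1 := by rw [e, Units.mul_inv]
  let za : C := ⟨z * a, hz p hp a haI⟩
  let zb : C := ⟨z * b, hz p hp b hbI⟩
  let za' : C := ⟨z' * a, hz p' hp' a haI⟩
  let zb' : C := ⟨z' * b, hz p' hp' b hbI⟩
  have : Module.Finite A C := Module.Finite.iff_fg.2 hC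
  have := finite_maximalSpectrum A C
  obtain ⟨e, he⟩ := Ideal.exists_forall_sub_mem_ideal (I := fun q : MaximalSpectrum C => q.asIdeal)
    (fun q q' h => Ideal.isCoprime_iff_sup_eq.2 (q.isMaximal.coprime_of_ne q'.isMaximal fun h' => h (MaximalSpectrum.ext h')))
    (fun q => if za ∈ q.asIdeal then 0 else 1)
  let tz : C := e * za + (1 - e) * zb
  let tz' : C := e * za' + (1 - e) * zb'
  have htop : Ideal.span {tz, tz'} = (⊤ : Ideal C) := by
    by_contra hne
    obtain ⟨Q, hQ, hle⟩ := Ideal.exists_le_maximal _ hne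
    have h1 : tz ∈ Q := hle (Ideal.subset_span (by simp))
    have h2 : tz' ∈ Q := hle (Ideal.subset_span (by simp))
    have heQ := he ⟨Q, hQ⟩
    have hsum : za + zb' = 1 := Subtype.ext hone
    by_cases hq : za ∈ Q
    · simp only [if_pos hq, sub_zero] at heQ
      have : zb' ∈ Q := by
        have : zb' = tz' - e * za' + e * zb' := by simp only [tz']; ring
        rw [this]; exact add_mem (sub_mem h2 (Q.mul_mem_right _ heQ)) (Q.mul_mem_right _ heQ)
      exact hQ.ne_top ((Ideal.eq_top_iff_one _).2 (hsum ▸ add_mem hq this))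
    · simp only [if_neg hq] at heQ
      refine hq ?_
      have : za = tz - (e - 1) * za + (e - 1) * zb := by simp only [tz]; ring
      rw [this]; exact add_mem (sub_mem h1 (Q.mul_mem_right _ heQ)) (Q.mul_mem_right _ heQ)
  obtain ⟨α, β, hαβ⟩ := Ideal.mem_span_pair.1 (htop ▸ Submodule.mem_top : (1 : C) ∈ Ideal.span {tz, tz'})
  let t : L c := (e : L c) * a + (1 - (e : L c)) * b
  have ht : t ∈ C := add_mem (mul_mem e.2 (hBC a.2)) (mul_mem (sub_mem (one_mem _) e.2) (hBC b.2))
  let h : L c := (α : L c) * z + β * z'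
  have hth : t * h = 1 := by
    refine Eq.trans ?_ (congrArg Subtype.val hαβ)
    simp only [t, h, tz, tz', za, zb, za', zb']
    push_cast
    ring
  refine ⟨C, ⟨t, ht⟩, α * za + β * za', α * zb + β * zb', hBC, hC, ?_, ?_, ?_⟩
  · change (a : L c) = t * ((α : L c) * (z * a) + β * (z' * a))
    calc (a : L c) = (t * h) * a := by rw [hth, one_mul]
      _ = _ := by simp only [h]; ring
  · change (b : L c) = t * ((α : L c) * (z * b) + β * (z' * b))
    calc (b : L c) = (t * h) * b := by rw [hth, one_mul]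
      _ = _ := by simp only [h]; ring
  · rw [Ideal.eq_top_iff_one, Ideal.mem_span_pair]
    refine ⟨tz, tz', Subtype.ext ?_⟩
    change (tz : L c) * ((α : L c) * (z * a) + β * (z' * a)) + (tz' : L c) * ((α : L c) * (z * b) + β * (z' * b)) = 1
    have e1 : (tz : L c) = z * t := by simp only [tz, za, zb, t]; push_cast; ring
    have e2 : (tz' : L c) = z' * t := by simp only [tz', za', zb', t]; push_cast; ring
    calc _ = (t * h) * (z * a + z' * b) := by rw [e1, e2]; simp only [h]; ring
      _ = 1 := by rw [hth, hone, one_mul]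

end Groth.Agent.Lib.Tame.Blowup
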