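import Groth.Agent.Lib.Tame.LocLen
import Mathlib.LinearAlgebra.Determinant
import Mathlib.RingTheory.Norm.Defs
import Mathlib.RingTheory.Finiteness.Basic
import Mathlib.RingTheory.Noetherian.Basic

/-!
# Determinants of multiplication maps as products of norms
-/

set_option autoImplicit false

universe u

open Groth.Agent.Lib.Tame.LocLen

namespace Groth.Agent.Lib.Tame.DetNorm

variable {K B C : Type u} [Field K] [CommRing B] [CommRing C] [Algebra K C] [Algebra B C]
  [Fintype (MaximalSpectrum B)]

/-- The determinant of multiplication by `x` on a module of finite length. -/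
theorem det_lsmul_eq_prod (hBC : Function.Surjective (algebraMap B C)) (x : B) (ν : MaximalSpectrum B → K)
    (hν : ∀ (k : MaximalSpectrum B) (n : Ideal C), n.IsMaximal → n.comap (algebraMap B C) = k.asIdeal →
      Algebra.norm K (Ideal.Quotient.mk n (algebraMap B C x)) = ν k)
    {M : Type u} [AddCommGroup M] [Module C M] (hM : IsFiniteLength C M) :
    ∀ [Module K M] [IsScalarTower K C M] [Module B M] [IsScalarTower B C M] [Module.Finite K M],
      LinearMap.det (Algebra.lsmul K K M (algebraMap B C x)) =
        ∏ k : MaximalSpectrum B, ν k ^ (locLen k.asIdeal M).toNat := by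
  classical
  induction hM with
  | @of_subsingleton M _ _ _ =>
    intro _ _ _ _ _
    simp [locLen_subsingleton, LinearMap.det_eq_one_of_subsingleton]
  | @of_simple_quotient M _ _ N _ _ ih =>
    intro _ _ _ _ _
    let NK : Submodule K M := N.restrictScalars K
    have hle : NK ≤ NK.comap (Algebra.lsmul K K M (algebraMap B C x)) := fun n hn => N.smul_mem _ hn
    have hf1 : Module.Finite K N := Module.Finite.equiv (LinearEquiv.refl K NK)
    have hf2 : Module.Finite K (M ⧸ N) := Module.Finite.of_surjective (N.mkQ.restrictScalars K) N.mkQ_surjective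
    rw [LinearMap.det_eq_det_mul_det NK _ hle]
    have hd1 : LinearMap.det ((Algebra.lsmul K K M (algebraMap B C x)).restrict hle) =
        LinearMap.det (Algebra.lsmul K K N (algebraMap B C x)) := rfl
    have hd2 : LinearMap.det (NK.mapQ NK (Algebra.lsmul K K M (algebraMap B C x)) hle) =
        LinearMap.det (Algebra.lsmul K K (M ⧸ N) (algebraMap B C x)) := by
      rw [← LinearMap.det_conj (Algebra.lsmul K K (M ⧸ N) (algebraMap B C x))
        (Submodule.Quotient.restrictScalarsEquiv K N).symm]
      congr 1
      ext y
      rfl
    rw [hd1, ih, hd2]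
    -- the local lengths add up
    have hfinN : IsFiniteLength B N := by
      have h1 : IsFiniteLength C N := ‹_›
      rw [← Module.length_ne_top_iff] at h1 ⊢
      rwa [Module.length_eq_of_surjective (R := C) (S := B) hBC]
    have hadd : ∀ k : MaximalSpectrum B, locLen k.asIdeal M = locLen k.asIdeal N + locLen k.asIdeal (M ⧸ N) :=
      fun k => locLen_add k.asIdeal (f := N.subtype.restrictScalars B) (g := N.mkQ.restrictScalars B)
        N.injective_subtype N.mkQ_surjective (LinearMap.exact_subtype_mkQ N)
    -- the simple quotient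
    obtain ⟨m, hm, ⟨e⟩⟩ := exists_equiv_quotient_of_isSimpleModule (R := C) (M := M ⧸ N)
    have hk0 : (m.comap (algebraMap B C)).IsMaximal := Ideal.comap_isMaximal_of_surjective _ hBC
    let k0 : MaximalSpectrum B := ⟨_, hk0⟩
    have hann : ∀ b ∈ k0.asIdeal, ∀ z : M ⧸ N, b • z = 0 := fun b hb z => by
      rw [← IsScalarTower.algebraMap_smul C]
      refine e.injective ?_
      rw [map_smul, map_zero]
      obtain ⟨w, hw⟩ := Ideal.Quotient.mk_surjective (e z)
      rw [← hw, ← Ideal.Quotient.mk_eq_mk, ← Submodule.Quotient.mk_smul, smul_eq_mul,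
        Submodule.Quotient.mk_eq_zero]
      exact m.mul_mem_right _ hb
    have hdet : LinearMap.det (Algebra.lsmul K K (M ⧸ N) (algebraMap B C x)) = ν k0 := by
      rw [← hν k0 m hm rfl, Algebra.norm_apply, ← LinearMap.det_conj _ (e.restrictScalars K)]
      congr 1
      refine LinearMap.ext fun y => ?_
      show e (algebraMap B C x • e.symm y) = Ideal.Quotient.mk m (algebraMap B C x) * y
      rw [map_smul, e.apply_symm_apply, Algebra.smul_def]
      rfl
    rw [hdet]
    have hlenQ : ∀ k : MaximalSpectrum B, locLen k.asIdeal (M ⧸ N) = if k = k0 then 1 else 0 := fun k => by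
      split_ifs with h
      · subst h
        have hsurj : Function.Surjective ((Algebra.linearMap B (C ⧸ m))) :=
          (Ideal.Quotient.mk_surjective).comp hBC
        have hker : LinearMap.ker (Algebra.linearMap B (C ⧸ m)) = k0.asIdeal := by
          ext b
          rw [LinearMap.mem_ker, Algebra.linearMap_apply, IsScalarTower.algebraMap_apply B C (C ⧸ m),
            Ideal.Quotient.algebraMap_eq, Ideal.Quotient.eq_zero_iff_mem]
          rfl
        rw [locLen_congr k0.asIdeal ((e.restrictScalars B).trans
          ((Submodule.quotEquivOfEq _ _ hker.symm).trans (LinearMap.quotKerEquivOfSurjective _ hsurj)).symm)]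
        exact locLen_self _
      · obtain ⟨s, hs, hsk⟩ : ∃ s ∈ k0.asIdeal, s ∉ k.asIdeal := by
          by_contra hne
          push Not at hne
          exact h (MaximalSpectrum.ext (hk0.eq_of_le k.isMaximal.ne_top hne).symm)
        exact locLen_eq_zero_of_smul _ hsk (hann s hs)
    have hsplit : ∀ k : MaximalSpectrum B, (locLen k.asIdeal M).toNat =
        (locLen k.asIdeal N).toNat + (if k = k0 then 1 else 0) := fun k => by
      rw [hadd k, hlenQ k, ENat.toNat_add (locLen_ne_top _ k.isMaximal hfinN) (by split_ifs <;> simp)]
      split_ifs <;> simp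
    simp only [hsplit, pow_add, Finset.prod_mul_distrib]
    congr 1
    rw [Finset.prod_eq_single k0 (fun k _ hk => by rw [if_neg hk, pow_zero])
      (fun h => absurd (Finset.mem_univ _) h), if_pos rfl, pow_one]

end Groth.Agent.Lib.Tame.DetNorm
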