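import Groth.Agent.Lib.Tame.Blowup

/-!
# Simultaneous factorisations after a finite extension inside `A[1/c]`
-/

set_option autoImplicit false

universe u

open IsLocalRing

namespace Groth.Agent.Lib.Tame.Exist

open Lattice Blowup

attribute [local irreducible] qlen

variable {A : Type u} [CommRing A] [IsNoetherianRing A] [IsLocalRing A] [Ring.KrullDimLE 1 A]
  {c : A}

/-- The invertible elements of a subalgebra, seen in `A[1/c]`. -/
def unitSet (B : Subalgebra A (L c)) : Set (L c) := {u | u ∈ B ∧ ∃ v ∈ B, u * v = 1}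

/-- Monomials in `S` up to units of `B`. -/
def Gen (B : Subalgebra A (L c)) (S : Finset (L c)) : Submonoid (L c) :=
  Submonoid.closure ((S : Set (L c)) ∪ unitSet B)

omit [IsNoetherianRing A] [IsLocalRing A] [Ring.KrullDimLE 1 A] in
theorem gen_le {B B' : Subalgebra A (L c)} (hB : B ≤ B') {S S' : Finset (L c)}
    (h : ∀ s ∈ S, s ∈ Gen B' S') : Gen B S ≤ Gen B' S' :=
  Submonoid.closure_le.2 (Set.union_subset h fun _ ⟨hu, v, hv, e⟩ =>
    Submonoid.subset_closure (Or.inr ⟨hB hu, v, hB hv, e⟩))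

omit [IsNoetherianRing A] [IsLocalRing A] [Ring.KrullDimLE 1 A] in
theorem span_pair_ne_top {B B' : Subalgebra A (L c)} (h : B ≤ B') [Module.Finite A B'] {a b : B}
    (hab : Ideal.span {a, b} ≠ ⊤) :
    Ideal.span {Subalgebra.inclusion h a, Subalgebra.inclusion h b} ≠ ⊤ := by
  obtain ⟨Q, hQ, hle⟩ := Ideal.exists_le_maximal _ hab
  let f : B →+* B' := (Subalgebra.inclusion h).toRingHom
  have hf : f.IsIntegral := fun x => by
    obtain ⟨p, hp, he⟩ := (Algebra.IsIntegral.isIntegral (R := A) x)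
    refine ⟨p.map (algebraMap A B), hp.map _, ?_⟩
    rw [Polynomial.eval₂_map]
    exact he
  let := f.toAlgebra
  have : Algebra.IsIntegral B B' := ⟨hf⟩
  have : FaithfulSMul B B' := (faithfulSMul_iff_algebraMap_injective _ _).2 (Subalgebra.inclusion_injective h)
  obtain ⟨Q', -, hQ', hQQ'⟩ := Ideal.exists_ideal_over_prime_of_isIntegral Q (⊥ : Ideal B') (by
    rw [← RingHom.ker_eq_comap_bot, (RingHom.injective_iff_ker_eq_bot _).1 (FaithfulSMul.algebraMap_injective B B')]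
    exact bot_le)
  intro htop
  refine hQ'.ne_top (top_le_iff.1 (htop.ge.trans (Ideal.span_le.2 ?_)))
  have hc : ∀ x ∈ Ideal.span {a, b}, f x ∈ Q' := fun x hx => by
    have : x ∈ Q'.comap (algebraMap B B') := hQQ' ▸ hle hx
    exact this
  rintro _ (rfl | rfl)
  · exact hc a (Ideal.subset_span (by simp))
  · exact hc b (Ideal.subset_span (by simp))

variable (hc : c ∈ nonZeroDivisors A) (hcm : c ∈ maximalIdeal A)
include hc

theorem qlen_ne_top {B : Subalgebra A (L c)} (hB : B.toSubmodule.FG) (x : B) (hx : IsUnit (x : L c)) :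
    qlen A x ≠ ⊤ := by
  obtain ⟨N, z, hz⟩ := exists_pow_eq_mul hc x hx
  have h := qlen_algebraMap hc hB (a := c ^ N) (by rw [map_pow]; exact (IsLocalization.Away.algebraMap_isUnit c).pow N)
  have h2 : qlen A (x * z) = qlen A z + qlen A x := qlen_mul (mem_nonZeroDivisors_L hc hx)
  have h3 : qlen A (x * z) = Ring.ord A (c ^ N) := hz ▸ h
  exact (WithTop.add_ne_top.1 (h2 ▸ h3 ▸ Ring.ord_ne_top (pow_mem hc N) : qlen A z + qlen A x ≠ ⊤)).2

include hcm

/-- Elements of a finite extension become monomials in pairwise coprime elements after enlarging it. -/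
theorem exists_coprime : ∀ (n : ℕ) (B : Subalgebra A (L c)), B.toSubmodule.FG → ∀ (S : Finset (L c))
    (hS : ∀ s ∈ S, s ∈ B), (∀ s ∈ S, IsUnit s) →
    (qlen A (⟨∏ s ∈ S, s, prod_mem hS⟩ : B)).toNat ≤ n →
    ∃ (B' : Subalgebra A (L c)) (S' : Finset (L c)), B ≤ B' ∧ B'.toSubmodule.FG ∧
      (∀ s ∈ S', s ∈ B' ∧ IsUnit s) ∧
      (∀ (x y : B'), (x : L c) ∈ S' → (y : L c) ∈ S' → x ≠ y → Ideal.span {x, y} = ⊤) ∧
      Gen B S ≤ Gen B' S' := by
  classical
  intro n
  induction n using Nat.strong_induction_on with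
  | _ n ih =>
    intro B hB S hS hSu hn
    by_cases hgood : ∀ (x y : B), (x : L c) ∈ S → (y : L c) ∈ S → x ≠ y → Ideal.span {x, y} = ⊤
    · exact ⟨B, S, le_rfl, hB, fun s hs => ⟨hS s hs, hSu s hs⟩, hgood, le_rfl⟩
    · push Not at hgood
      obtain ⟨a, b, ha, hb, hne, hab⟩ := hgood
      obtain ⟨B', t, a', b', hBB', hB', hat, hbt, hcop⟩ := exists_step hc hcm hB a b (hSu _ ha)
      have : Module.Finite A B' := Module.Finite.iff_fg.2 hB'
      have htu' : IsUnit ((t : L c) * a') := hat ▸ hSu _ ha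
      have htu : IsUnit (t : L c) := isUnit_of_mul_isUnit_left htu'
      have hau : IsUnit (a' : L c) := isUnit_of_mul_isUnit_right htu'
      have hbu : IsUnit (b' : L c) := isUnit_of_mul_isUnit_right (hbt ▸ hSu _ hb : IsUnit ((t : L c) * b'))
      set R : Finset (L c) := (S.erase (a : L c)).erase (b : L c) with hR
      set S₁ : Finset (L c) := insert (t : L c) (insert (a' : L c) (insert (b' : L c) R)) with hS₁
      have hRS : ∀ s ∈ R, s ∈ S := fun s hs => (Finset.mem_erase.1 (Finset.mem_erase.1 hs).2).2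
      have hS₁B : ∀ s ∈ S₁, s ∈ B' ∧ IsUnit s := by
        intro s hs
        rcases Finset.mem_insert.1 hs with rfl | hs
        · exact ⟨t.2, htu⟩
        rcases Finset.mem_insert.1 hs with rfl | hs
        · exact ⟨a'.2, hau⟩
        rcases Finset.mem_insert.1 hs with rfl | hs
        · exact ⟨b'.2, hbu⟩
        exact ⟨hBB' (hS s (hRS s hs)), hSu s (hRS s hs)⟩
      have hmem : ∀ s ∈ S₁, s ∈ B' := fun s hs => (hS₁B s hs).1
      have hprod : ∀ (T : Finset (L c)) (x : L c), x ∈ B' → (∀ s ∈ T, s ∈ B') →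
          ∃ w ∈ B', x * ∏ s ∈ T, s = w * ∏ s ∈ insert x T, s := fun T x hx hT => by
        by_cases hxT : x ∈ T
        · exact ⟨x, hx, by rw [Finset.insert_eq_of_mem hxT]⟩
        · exact ⟨1, one_mem _, by rw [Finset.prod_insert hxT, one_mul]⟩
      have hbR : (b : L c) ∈ S.erase (a : L c) := Finset.mem_erase.2 ⟨fun e => hne (Subtype.ext e.symm), hb⟩
      have hsplit : ∏ s ∈ S, s = (a : L c) * ((b : L c) * ∏ s ∈ R, s) := by
        rw [hR, ← Finset.prod_insert (f := fun s => s) (Finset.notMem_erase _ _), Finset.insert_erase hbR,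
          ← Finset.prod_insert (f := fun s => s) (Finset.notMem_erase _ _), Finset.insert_erase ha]
      have hRB : ∀ s ∈ R, s ∈ B' := fun s hs => hBB' (hS s (hRS s hs))
      obtain ⟨w₁, hw₁, e₁⟩ := hprod R (b' : L c) b'.2 hRB
      obtain ⟨w₂, hw₂, e₂⟩ := hprod (insert (b' : L c) R) (a' : L c) a'.2 (fun s hs => by
        rcases Finset.mem_insert.1 hs with rfl | hs
        · exact b'.2
        · exact hRB s hs)
      obtain ⟨w₃, hw₃, e₃⟩ := hprod (insert (a' : L c) (insert (b' : L c) R)) (t : L c) t.2 (fun s hs => by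
        rcases Finset.mem_insert.1 hs with rfl | hs
        · exact a'.2
        rcases Finset.mem_insert.1 hs with rfl | hs
        · exact b'.2
        · exact hRB s hs)
      let p₁ : B' := ⟨∏ s ∈ S₁, s, prod_mem hmem⟩
      let W : B' := t * (⟨w₁, hw₁⟩ * (⟨w₂, hw₂⟩ * ⟨w₃, hw₃⟩))
      have hfac : Subalgebra.inclusion hBB' ⟨∏ s ∈ S, s, prod_mem hS⟩ = p₁ * W := by
        refine Subtype.ext ?_
        change ∏ s ∈ S, s = (∏ s ∈ S₁, s) * ((t : L c) * (w₁ * (w₂ * w₃)))
        rw [hsplit, hat, hbt, hS₁]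
        calc (t : L c) * a' * (t * b' * ∏ s ∈ R, s) = t * (a' * (t * (b' * ∏ s ∈ R, s))) := by ring
          _ = _ := by rw [e₁]
          _ = t * w₁ * ((t : L c) * (a' * ∏ s ∈ insert (b' : L c) R, s)) := by ring
          _ = _ := by rw [e₂]
          _ = t * w₁ * w₂ * ((t : L c) * ∏ s ∈ insert (a' : L c) (insert (b' : L c) R), s) := by ring
          _ = _ := by rw [e₃]
          _ = _ := by ring
      have hp₁u : IsUnit (p₁ : L c) := (IsUnit.prod_iff).2 fun s hs => (hS₁B s hs).2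
      have hpu : IsUnit (∏ s ∈ S, s) := IsUnit.prod_iff.2 hSu
      have hlen : qlen A (⟨∏ s ∈ S, s, prod_mem hS⟩ : B) = qlen A W + qlen A p₁ := by
        have h1 := qlen_inclusion hc hBB' hB' (⟨∏ s ∈ S, s, prod_mem hS⟩ : B) hpu
        have h2 : qlen A (p₁ * W) = qlen A W + qlen A p₁ := qlen_mul (mem_nonZeroDivisors_L hc hp₁u)
        exact h1.symm.trans ((congrArg (qlen A) hfac).trans h2)
      have htn : ¬ IsUnit t := fun h => by
        refine span_pair_ne_top hBB' hab ?_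
        have ea : Subalgebra.inclusion hBB' a = t * a' := Subtype.ext hat
        have eb : Subalgebra.inclusion hBB' b = t * b' := Subtype.ext hbt
        obtain ⟨r, s, hrs⟩ := Ideal.mem_span_pair.1 ((Ideal.eq_top_iff_one _).1 hcop)
        obtain ⟨v, hv⟩ := h
        refine (Ideal.eq_top_iff_one _).2 (Ideal.mem_span_pair.2 ⟨r * ↑v⁻¹, s * ↑v⁻¹, ?_⟩)
        calc r * ↑v⁻¹ * Subalgebra.inclusion hBB' a + s * ↑v⁻¹ * Subalgebra.inclusion hBB' b
            = r * ↑v⁻¹ * (↑v * a') + s * ↑v⁻¹ * (↑v * b') := by rw [hv, ← ea, ← eb]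
          _ = ↑v⁻¹ * ↑v * (r * a' + s * b') := by ring
          _ = 1 := by rw [Units.inv_mul, one_mul, hrs]
      have hW : qlen A W ≠ 0 := by
        rw [Ne, qlen_eq_zero_iff]
        exact fun h => htn (isUnit_of_mul_isUnit_left h)
      have hfin : qlen A (⟨∏ s ∈ S, s, prod_mem hS⟩ : B) ≠ ⊤ := qlen_ne_top hc hB _ hpu
      rw [hlen] at hfin hn
      obtain ⟨hWf, hpf⟩ := WithTop.add_ne_top.1 hfin
      have hlt : (qlen A p₁).toNat < n := by
        rw [ENat.toNat_add hWf hpf] at hn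
        have : (qlen A W).toNat ≠ 0 := fun h => (ENat.toNat_eq_zero.1 h).elim hW hWf
        omega
      obtain ⟨B'', S', hle, hfg, hS', hcop', hgen⟩ := ih _ hlt B' hB' S₁ hmem (fun s hs => (hS₁B s hs).2) le_rfl
      refine ⟨B'', S', hBB'.trans hle, hfg, hS', hcop', le_trans (gen_le hBB' fun s hs => ?_) hgen⟩
      have hsub : ∀ s ∈ S₁, s ∈ Gen B' S₁ := fun s hs => Submonoid.subset_closure (Or.inl hs)
      by_cases hsa : s = (a : L c)
      · rw [hsa, hat]; exact mul_mem (hsub _ (by simp [hS₁])) (hsub _ (by simp [hS₁]))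
      by_cases hsb : s = (b : L c)
      · rw [hsb, hbt]; exact mul_mem (hsub _ (by simp [hS₁])) (hsub _ (by simp [hS₁]))
      exact hsub s (by simp [hS₁, hR, hsa, hsb, hs])

/-- A family of elements becomes, locally, powers of one element. -/
theorem exists_factorizations {B : Subalgebra A (L c)} (hB : B.toSubmodule.FG) (S : Finset (L c))
    (hS : ∀ s ∈ S, s ∈ B) (hSu : ∀ s ∈ S, IsUnit s) :
    ∃ B' : Subalgebra A (L c), ∃ h : B ≤ B', B'.toSubmodule.FG ∧ ∀ q : MaximalSpectrum B',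
      ∃ π : Localization.AtPrime q.asIdeal, π ∈ nonZeroDivisors (Localization.AtPrime q.asIdeal) ∧
        ∀ x : B, (x : L c) ∈ S → ∃ (v : (Localization.AtPrime q.asIdeal)ˣ) (e : ℕ),
          algebraMap B' (Localization.AtPrime q.asIdeal) (Subalgebra.inclusion h x) = v * π ^ e := by
  classical
  obtain ⟨B', S', hBB', hB', hS', hcop, hgen⟩ := exists_coprime hc hcm _ B hB S hS hSu le_rfl
  refine ⟨B', hBB', hB', fun q => ?_⟩
  set R := Localization.AtPrime q.asIdeal
  have hnzd : ∀ z : B', IsUnit (z : L c) → algebraMap B' R z ∈ nonZeroDivisors R := fun z hz =>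
    IsLocalization.map_nonZeroDivisors_le q.asIdeal.primeCompl R ⟨z, mem_nonZeroDivisors_L hc hz, rfl⟩
  obtain ⟨π, hπ, hπS⟩ : ∃ π : R, π ∈ nonZeroDivisors R ∧ ∀ z : B', (z : L c) ∈ S' →
      ∃ (v : Rˣ) (e : ℕ), algebraMap B' R z = v * π ^ e := by
    by_cases h : ∃ z : B', (z : L c) ∈ S' ∧ z ∈ q.asIdeal
    · obtain ⟨z₀, hz₀, hq₀⟩ := h
      refine ⟨algebraMap B' R z₀, hnzd z₀ (hS' _ hz₀).2, fun z hz => ?_⟩
      by_cases hz' : z ∈ q.asIdeal
      · have : z = z₀ := by
          by_contra hne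
          exact q.isMaximal.ne_top (top_le_iff.1 ((hcop z z₀ hz hz₀ hne).ge.trans (Ideal.span_le.2 (by
            rintro _ (rfl | rfl)
            exacts [hz', hq₀]))))
        exact ⟨1, 1, by simp [this]⟩
      · exact ⟨((IsLocalization.AtPrime.isUnit_to_map_iff R q.asIdeal z).2 hz').unit, 0, by simp⟩
    · refine ⟨1, one_mem _, fun z hz => ?_⟩
      exact ⟨((IsLocalization.AtPrime.isUnit_to_map_iff R q.asIdeal z).2 fun hz' => h ⟨z, hz, hz'⟩).unit, 0, by simp⟩
  refine ⟨π, hπ, fun x hx => ?_⟩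
  have hg : (x : L c) ∈ Gen B' S' := hgen (Submonoid.subset_closure (Or.inl hx))
  suffices ∀ w ∈ Gen B' S', ∀ hw : w ∈ B', ∃ (v : Rˣ) (e : ℕ), algebraMap B' R ⟨w, hw⟩ = v * π ^ e from
    this _ hg (hBB' x.2)
  intro w hw
  suffices ∃ hw : w ∈ B', ∃ (v : Rˣ) (e : ℕ), algebraMap B' R ⟨w, hw⟩ = v * π ^ e from fun _ => this.2
  induction hw using Submonoid.closure_induction with
  | mem w hw =>
    rcases hw with hw | ⟨hwB, v, hv, e⟩
    · exact ⟨(hS' w hw).1, hπS ⟨w, (hS' w hw).1⟩ hw⟩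
    · refine ⟨hwB, ((IsUnit.of_mul_eq_one (⟨v, hv⟩ : B') (Subtype.ext e : (⟨w, hwB⟩ : B') * ⟨v, hv⟩ = 1)).map
        (algebraMap B' R)).unit, 0, by simp⟩
  | one => exact ⟨one_mem _, 1, 0, by rw [show (⟨1, one_mem _⟩ : B') = 1 from rfl]; simp⟩
  | mul w w' _ _ h h' =>
    obtain ⟨hw, v, e, he⟩ := h
    obtain ⟨hw', v', e', he'⟩ := h'
    refine ⟨mul_mem hw hw', v * v', e + e', ?_⟩
    rw [show (⟨w * w', mul_mem hw hw'⟩ : B') = ⟨w, hw⟩ * ⟨w', hw'⟩ from rfl, map_mul, he, he', Units.val_mul, pow_add]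
    ring

end Groth.Agent.Lib.Tame.Exist

namespace Groth.Agent.Lib.Tame.Exist

open Lattice

variable {A : Type u} [CommRing A] [IsNoetherianRing A] [IsLocalRing A] [Ring.KrullDimLE 1 A] {c : A}

omit [IsNoetherianRing A] [IsLocalRing A] [Ring.KrullDimLE 1 A] in
theorem isUnit_of_dvd {a : A} (h : a ∣ c) : IsUnit (algebraMap A (L c) a) :=
  isUnit_of_dvd_unit (map_dvd _ h) (IsLocalization.Away.algebraMap_isUnit c)

end Groth.Agent.Lib.Tame.Exist
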