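import Groth.Agent.Lib.Tame.LocLen
import Groth.Agent.Lib.Dim.Integral
import Groth.Agent.Lib.Tame.Exist
import Mathlib.RingTheory.Norm.Transitivity
import Mathlib.Data.ENat.BigOperators
import Mathlib.RingTheory.KrullDimension.LocalRing
import Mathlib.RingTheory.Ideal.KrullsHeightTheorem

/-!
# Independence of the tame symbol of the chosen data
-/

set_option autoImplicit false

universe u

open IsLocalRing

namespace Groth.Agent.Lib.Tame.Value

/-- A factorisation of two elements as units times powers of one nonzerodivisor. -/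
structure Fac (R : Type u) [CommRing R] (a b : R) where
  /-- the parameter -/
  π : R
  hπ : π ∈ nonZeroDivisors R
  /-- the unit of `a` -/
  u : Rˣ
  /-- the unit of `b` -/
  v : Rˣ
  /-- the exponent of `a` -/
  e : ℕ
  /-- the exponent of `b` -/
  f : ℕ
  ha : a = u * π ^ e
  hb : b = v * π ^ f

section Local

variable {R : Type u} [CommRing R] [IsLocalRing R] {a b : R}

/-- The base of the local symbol. -/
noncomputable def Fac.base (F : Fac R a b) : ResidueField R :=
  (-1) ^ (F.e * F.f) * residue R F.u ^ F.f * (residue R F.v ^ F.e)⁻¹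

/-- The local symbol of a factorisation. -/
noncomputable def Fac.val (F : Fac R a b) : ResidueField R := F.base ^ (Ring.ord R F.π).toNat

theorem Fac.mem_left (F : Fac R a b) : a ∈ nonZeroDivisors R :=
  F.ha ▸ mul_mem F.u.isUnit.mem_nonZeroDivisors (pow_mem F.hπ _)

theorem Fac.mem_right (F : Fac R a b) : b ∈ nonZeroDivisors R :=
  F.hb ▸ mul_mem F.v.isUnit.mem_nonZeroDivisors (pow_mem F.hπ _)

theorem Fac.val_of_isUnit (F : Fac R a b) (ha : IsUnit a) (hb : IsUnit b) : F.val = 1 := by
  by_cases h : IsUnit F.π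
  · simp [Fac.val, Ring.ord_of_isUnit h]
  · have he : F.e = 0 := by
      by_contra he
      exact h ((isUnit_pow_iff he).1 (isUnit_of_mul_isUnit_right (F.ha ▸ ha)))
    have hf : F.f = 0 := by
      by_contra hf
      exact h ((isUnit_pow_iff hf).1 (isUnit_of_mul_isUnit_right (F.hb ▸ hb)))
    simp [Fac.val, Fac.base, he, hf]

variable [IsNoetherianRing R] [Ring.KrullDimLE 1 R]

theorem Fac.ord_left (F : Fac R a b) : (Ring.ord R a).toNat = F.e * (Ring.ord R F.π).toNat := by
  conv_lhs => rw [F.ha]
  rw [Ring.ord_mul_of_isUnit_left F.u.isUnit, Ring.ord_pow F.hπ, nsmul_eq_mul, ENat.toNat_mul, ENat.toNat_natCast]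

theorem Fac.ord_right (F : Fac R a b) : (Ring.ord R b).toNat = F.f * (Ring.ord R F.π).toNat := by
  conv_lhs => rw [F.hb]
  rw [Ring.ord_mul_of_isUnit_left F.v.isUnit, Ring.ord_pow F.hπ, nsmul_eq_mul, ENat.toNat_mul, ENat.toNat_natCast]

theorem neg_one_pow_sq_mul (h n : ℕ) {M : Type u} [Field M] :
    ((-1 : M)) ^ (h * h * n) = (-1) ^ (h * n) := by
  rcases Nat.even_or_odd h with he | ho
  · rw [Even.neg_one_pow ((he.mul_right h).mul_right n), Even.neg_one_pow (he.mul_right n)]
  · rw [pow_mul, Odd.neg_one_pow (ho.mul ho), pow_mul, Odd.neg_one_pow ho]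

/-- The local symbol written through the coprime exponents. -/
theorem Fac.val_eq_canonical (F : Fac R a b) (ε ζ g : ℕ) (hg : g ≠ 0)
    (hcop : Nat.Coprime ε ζ) (hε : (Ring.ord R a).toNat = g * ε) (hζ : (Ring.ord R b).toNat = g * ζ) :
    ∃ y : Rˣ, a ^ ζ = y * b ^ ε ∧ F.val = ((-1) ^ (ε * ζ) * residue R y) ^ g := by
  set m := (Ring.ord R F.π).toNat with hm
  rw [F.ord_left] at hε
  rw [F.ord_right] at hζ
  have hgm : g = m * Nat.gcd F.e F.f := by
    rw [← Nat.gcd_mul_left, mul_comm m, mul_comm m, hε, hζ, Nat.gcd_mul_left, hcop.gcd_eq_one, mul_one]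
  set h := Nat.gcd F.e F.f with hh
  have hm0 : m ≠ 0 := fun h0 => hg (by rw [hgm, h0, zero_mul])
  have he : F.e = h * ε := Nat.eq_of_mul_eq_mul_left (Nat.pos_of_ne_zero hm0) (by
    rw [← mul_assoc, ← hgm, ← hε, mul_comm])
  have hf : F.f = h * ζ := Nat.eq_of_mul_eq_mul_left (Nat.pos_of_ne_zero hm0) (by
    rw [← mul_assoc, ← hgm, ← hζ, mul_comm])
  refine ⟨F.u ^ ζ * (F.v ^ ε)⁻¹, ?_, ?_⟩
  · rw [congrArg (fun z : R => z ^ ζ) F.ha, congrArg (fun z : R => z ^ ε) F.hb]
    rw [mul_pow, mul_pow, ← pow_mul, ← pow_mul, he, hf, mul_assoc h ε ζ, mul_assoc h ζ ε, mul_comm ζ ε,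
      Units.val_mul, Units.val_pow_eq_pow_val, ← mul_assoc, mul_assoc ((F.u : R) ^ ζ),
      ← Units.val_pow_eq_pow_val F.v, Units.inv_mul_cancel_left]
  · rw [Fac.val, Fac.base, ← hm, hgm, he, hf, show h * ε * (h * ζ) = h * h * (ε * ζ) by ring,
      neg_one_pow_sq_mul, mul_comm m h, pow_mul ((-1) ^ (ε * ζ) * _)]
    congr 1
    have : residue R (↑(F.u ^ ζ * (F.v ^ ε)⁻¹) : R) = residue R F.u ^ ζ * (residue R F.v ^ ε)⁻¹ := by
      rw [Units.val_mul, map_mul, Units.val_pow_eq_pow_val, map_pow, map_units_inv,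
        Units.val_pow_eq_pow_val, map_pow]
    rw [this, mul_pow, mul_pow, inv_pow]
    simp only [← pow_mul]
    rw [mul_comm h ζ, mul_comm h ε, mul_comm h (ε * ζ), mul_assoc]

theorem coprime_data {La Lb : ℕ} (h : ¬(La = 0 ∧ Lb = 0)) :
    ∃ ε ζ g, g ≠ 0 ∧ Nat.Coprime ε ζ ∧ La = g * ε ∧ Lb = g * ζ := by
  have hg : 0 < Nat.gcd La Lb := Nat.pos_of_ne_zero fun h0 => h (Nat.gcd_eq_zero_iff.1 h0)
  exact ⟨La / Nat.gcd La Lb, Lb / Nat.gcd La Lb, Nat.gcd La Lb, hg.ne', Nat.coprime_div_gcd_div_gcd hg,
    (Nat.mul_div_cancel' (Nat.gcd_dvd_left _ _)).symm, (Nat.mul_div_cancel' (Nat.gcd_dvd_right _ _)).symm⟩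

theorem ord_toNat_eq_zero {x : R} (hx : x ∈ nonZeroDivisors R) (h : (Ring.ord R x).toNat = 0) : IsUnit x := by
  have h0 : Ring.ord R x = 0 := (ENat.toNat_eq_zero.1 h).resolve_right (Ring.ord_ne_top hx)
  rw [Ring.ord, Module.length_eq_zero_iff, Submodule.Quotient.subsingleton_iff] at h0
  exact Ideal.span_singleton_eq_top.1 h0

/-- The local symbol does not depend on the factorisation. -/
theorem Fac.val_eq (F F' : Fac R a b) : F.val = F'.val := by
  by_cases h : (Ring.ord R a).toNat = 0 ∧ (Ring.ord R b).toNat = 0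
  · have ha := ord_toNat_eq_zero F.mem_left h.1
    have hb := ord_toNat_eq_zero F.mem_right h.2
    rw [F.val_of_isUnit ha hb, F'.val_of_isUnit ha hb]
  · obtain ⟨ε, ζ, g, hg, hcop, hε, hζ⟩ := coprime_data h
    obtain ⟨y, hy, e⟩ := F.val_eq_canonical ε ζ g hg hcop hε hζ
    obtain ⟨y', hy', e'⟩ := F'.val_eq_canonical ε ζ g hg hcop hε hζ
    have : y = y' := Units.ext (mul_cancel_right_mem_nonZeroDivisors (pow_mem F.mem_right ε) |>.1 (hy ▸ hy'))
    rw [e, e', this]

end Local

section Global

variable {A : Type u} [CommRing A] [IsLocalRing A]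

/-- The norm to the residue field of `A` from a closed point of a finite algebra. -/
noncomputable def nrm {B : Type u} [CommRing B] [Algebra A B] [Module.Finite A B] (q : MaximalSpectrum B)
    (x : ResidueField (Localization.AtPrime q.asIdeal)) : ResidueField A :=
  haveI := Lattice.isLocalHom_atPrime (A := A) q.asIdeal
  Algebra.norm (ResidueField A) x

theorem nrm_pow {B : Type u} [CommRing B] [Algebra A B] [Module.Finite A B] (q : MaximalSpectrum B)
    (x : ResidueField (Localization.AtPrime q.asIdeal)) (n : ℕ) : nrm (A := A) q (x ^ n) = nrm (A := A) q x ^ n :=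
  haveI := Lattice.isLocalHom_atPrime (A := A) q.asIdeal
  map_pow (Algebra.norm (ResidueField A)) x n

theorem nrm_one {B : Type u} [CommRing B] [Algebra A B] [Module.Finite A B] (q : MaximalSpectrum B) :
    nrm (A := A) q 1 = 1 :=
  haveI := Lattice.isLocalHom_atPrime (A := A) q.asIdeal
  map_one (Algebra.norm (ResidueField A))

variable [IsNoetherianRing A] [Ring.KrullDimLE 1 A]

theorem krullDimLE_atPrime {B : Type u} [CommRing B] [Algebra A B] [Module.Finite A B]
    (q : Ideal B) [q.IsPrime] : Ring.KrullDimLE 1 (Localization.AtPrime q) := by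
  have : ringKrullDim B ≤ 1 := (Groth.Agent.Lib.Dim.Integral.ringKrullDim_le_of_isIntegral (R := A) (A := B)).trans
    (Ring.krullDimLE_iff.1 ‹_›)
  rw [Ring.krullDimLE_iff, IsLocalization.AtPrime.ringKrullDim_eq_height q]
  exact (Ideal.height_le_ringKrullDim_of_ne_top Ideal.IsPrime.ne_top').trans this

variable {B B' : Type u} [CommRing B] [Algebra A B] [Module.Finite A B] [CommRing B'] [Algebra A B'] [Module.Finite A B']

attribute [local instance] Localization.AtPrime.algebraOfLiesOver

/-- The orders of an element of `A` upstairs add up to the one downstairs. -/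
theorem sum_resDeg_ord [Algebra B B'] [IsScalarTower A B B'] [Fintype (MaximalSpectrum B')]
    (hinj : Function.Injective (algebraMap B B'))
    (hB' : CycAlg.IsFinExt A B' (maximalIdeal A)) {a : A} (ha : a ∈ nonZeroDivisors A) (ham : a ∈ maximalIdeal A)
    (hreg : algebraMap A B' a ∈ nonZeroDivisors B') (p : Ideal B) [p.IsMaximal] :
    Ring.ord (Localization.AtPrime p) (algebraMap A (Localization.AtPrime p) a) =
      ∑ k : MaximalSpectrum B', (LocLen.resDeg p k.asIdeal : ℕ∞) *
        Ring.ord (Localization.AtPrime k.asIdeal) (algebraMap A (Localization.AtPrime k.asIdeal) a) := by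
  have : Module.Finite B B' := Module.Finite.of_restrictScalars_finite A B B'
  have : IsNoetherianRing B := isNoetherian_of_tower A inferInstance
  have hflA : ∀ (M : Type u) [AddCommGroup M] [Module A M] [Module.Finite A M] (N : ℕ),
      (∀ x : M, a ^ N • x = 0) → IsFiniteLength A M :=
    fun M _ _ _ N h => Module.length_ne_top_iff.1 (Lattice.length_quot_ne_top_of_pow ha N h)
  have hup : ∀ (S : Type u) [CommRing S] [Algebra A S] (M : Type u) [AddCommGroup M] [Module A M] [Module S M]
      [IsScalarTower A S M], IsFiniteLength A M → IsFiniteLength S M := fun S _ _ M _ _ _ _ h => by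
    obtain ⟨h1, h2⟩ := isFiniteLength_iff_isNoetherian_isArtinian.1 h
    exact isFiniteLength_iff_isNoetherian_isArtinian.2 ⟨isNoetherian_of_tower A h1, isArtinian_of_tower A h2⟩
  let x := algebraMap A B' a
  let I : Ideal B' := Ideal.span {x}
  have hI : IsFiniteLength A (B' ⧸ I) := by
    have : Module.Finite A (B' ⧸ I) := Module.Finite.of_surjective (Ideal.Quotient.mkₐ A I).toLinearMap
      Ideal.Quotient.mk_surjective
    refine hflA _ 1 fun z => ?_
    obtain ⟨z, rfl⟩ := Ideal.Quotient.mk_surjective z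
    rw [pow_one, ← Ideal.Quotient.mkₐ_eq_mk A, ← map_smul, Ideal.Quotient.mkₐ_eq_mk,
      Ideal.Quotient.eq_zero_iff_mem, Algebra.smul_def]
    exact I.mul_mem_right _ (Ideal.mem_span_singleton_self _)
  have hsum := LocLen.locLen_eq_sum p (hup B' (B' ⧸ I) hI)
  rw [Finset.sum_congr rfl fun k _ => by rw [LocLen.locLen_quotient_span k.asIdeal x,
    ← IsScalarTower.algebraMap_apply A B' (Localization.AtPrime k.asIdeal)]] at hsum
  rw [← hsum, IsScalarTower.algebraMap_apply A B (Localization.AtPrime p), ← LocLen.locLen_quotient_span p]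
  -- compare the two lattices
  let ι : B →ₗ[B] B' := Algebra.linearMap B B'
  let Q := B' ⧸ LinearMap.range ι
  have hQ : IsFiniteLength B Q := by
    obtain ⟨-, -, n, hn⟩ := hB'
    have : Module.Finite A Q := Module.Finite.quotient A (LinearMap.range ι)
    suffices h : ∀ z : Q, a ^ n • z = 0 by
      obtain ⟨hN, hA⟩ := isFiniteLength_iff_isNoetherian_isArtinian.1 (hflA Q n h)
      exact isFiniteLength_iff_isNoetherian_isArtinian.2 ⟨isNoetherian_of_tower A hN, isArtinian_of_tower A hA⟩
    intro z
    obtain ⟨z, rfl⟩ := Submodule.mkQ_surjective (LinearMap.range ι) z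
    obtain ⟨w, hw⟩ := hn (a ^ n) (Ideal.pow_mem_pow ham n) z
    rw [← LinearMap.map_smul_of_tower, Submodule.mkQ_apply, Submodule.Quotient.mk_eq_zero]
    exact ⟨algebraMap A B w, by
      change algebraMap B B' (algebraMap A B w) = a ^ n • z
      rw [← IsScalarTower.algebraMap_apply, hw]⟩
  let J : Submodule B B' := I.restrictScalars B
  let K : Submodule B B' := Submodule.map ι (Ideal.span {algebraMap A B a})
  have hxa : ∀ z : B, x * ι z = ι (z * algebraMap A B a) := fun z => by
    change algebraMap A B' a * algebraMap B B' z = algebraMap B B' (z * algebraMap A B a)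
    rw [map_mul, ← IsScalarTower.algebraMap_apply, mul_comm]
  have hK1 : K ≤ LinearMap.range ι := LinearMap.map_le_range
  have hK2 : K ≤ J := by
    rintro _ ⟨z, hz, rfl⟩
    obtain ⟨w, rfl⟩ := Ideal.mem_span_singleton'.1 hz
    change ι (w * algebraMap A B a) ∈ I
    rw [← hxa]
    exact I.mul_mem_right _ (Ideal.mem_span_singleton_self _)
  have h1 : LocLen.locLen p (B' ⧸ K) = LocLen.locLen p (B ⧸ Ideal.span {algebraMap A B a}) + LocLen.locLen p Q := by
    refine LocLen.locLen_add p (f := (Ideal.span {algebraMap A B a}).mapQ K ι (Submodule.le_comap_map _ _))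
      (g := Submodule.factor hK1) ?_ (Submodule.factor_surjective _) ?_
    · rw [← LinearMap.ker_eq_bot]
      refine Submodule.ker_liftQ_eq_bot _ _ _ ?_
      intro z hz
      rw [LinearMap.mem_ker, LinearMap.comp_apply, Submodule.mkQ_apply, Submodule.Quotient.mk_eq_zero] at hz
      obtain ⟨w, hw, e⟩ := hz
      rwa [← hinj e]
    · rw [LinearMap.exact_iff]
      simp only [Submodule.factor, Submodule.mapQ, Submodule.range_liftQ]
      rw [Submodule.ker_liftQ, LinearMap.ker_comp, Submodule.ker_mkQ, LinearMap.range_comp]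
      rfl
  have h2 : LocLen.locLen p (B' ⧸ K) = LocLen.locLen p Q + LocLen.locLen p (B' ⧸ J) := by
    refine LocLen.locLen_add p (f := (LinearMap.range ι).mapQ K (LinearMap.mulLeft B x) ?_)
      (g := Submodule.factor hK2) ?_ (Submodule.factor_surjective _) ?_
    · rintro _ ⟨z, rfl⟩
      exact ⟨z * algebraMap A B a, Ideal.mul_mem_left _ _ (Ideal.mem_span_singleton_self _), (hxa z).symm⟩
    · rw [← LinearMap.ker_eq_bot]
      refine Submodule.ker_liftQ_eq_bot _ _ _ ?_
      intro z hz
      rw [LinearMap.mem_ker, LinearMap.comp_apply, Submodule.mkQ_apply, Submodule.Quotient.mk_eq_zero] at hz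
      obtain ⟨w, hw, e⟩ := hz
      obtain ⟨w, rfl⟩ := Ideal.mem_span_singleton'.1 hw
      refine ⟨w, (mul_cancel_left_mem_nonZeroDivisors hreg).1 ?_⟩
      exact (hxa w).trans e
    · rw [LinearMap.exact_iff]
      simp only [Submodule.factor, Submodule.mapQ]
      rw [Submodule.ker_liftQ, LinearMap.ker_comp, Submodule.ker_mkQ]
      erw [Submodule.range_liftQ]
      rw [LinearMap.range_comp]
      congr 1
      ext z
      exact ⟨fun hz => by
          obtain ⟨w, hw⟩ := Ideal.mem_span_singleton'.1 hz
          exact ⟨w, (mul_comm x w).trans hw⟩,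
        fun ⟨w, hw⟩ => Ideal.mem_span_singleton'.2 ⟨w, (mul_comm w x).trans hw⟩⟩
  rw [h2, add_comm] at h1
  have h3 := WithTop.add_right_cancel (LocLen.locLen_ne_top p inferInstance hQ) h1
  refine h3.symm.trans ?_
  rfl

/-- Regularity is local. -/
theorem mem_nonZeroDivisors_of_local {B : Type u} [CommRing B] {x : B}
    (h : ∀ q : MaximalSpectrum B, algebraMap B (Localization.AtPrime q.asIdeal) x ∈
      nonZeroDivisors (Localization.AtPrime q.asIdeal)) : x ∈ nonZeroDivisors B := by
  rw [mem_nonZeroDivisors_iff_right]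
  intro y hy
  refine MaximalSpectrum.toPiLocalization_injective B (funext fun q => ?_)
  change algebraMap B (Localization.AtPrime q.asIdeal) y = algebraMap B (Localization.AtPrime q.asIdeal) 0
  rw [map_zero]
  exact (mul_right_mem_nonZeroDivisors_eq_zero_iff (h q)).1 (by rw [← map_mul, hy, map_zero])

/-- The image of a factorisation. -/
def Fac.map {R S : Type u} [CommRing R] [CommRing S] {a b : R} (g : R →+* S) (F : Fac R a b)
    (h : g F.π ∈ nonZeroDivisors S) : Fac S (g a) (g b) where
  π := g F.π
  hπ := h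
  u := F.u.map g.toMonoidHom
  v := F.v.map g.toMonoidHom
  e := F.e
  f := F.f
  ha := by rw [congrArg g F.ha, map_mul, map_pow]; rfl
  hb := by rw [congrArg g F.hb, map_mul, map_pow]; rfl

/-- The image of a factorisation, for prescribed images. -/
def Fac.cast {R : Type u} [CommRing R] {a b a' b' : R} (F : Fac R a b) (ha : a = a') (hb : b = b') : Fac R a' b' :=
  { F with ha := ha ▸ F.ha, hb := hb ▸ F.hb }

/-- The local contributions upstairs multiply to the one downstairs. -/
theorem prod_nrm_eq [Algebra B B'] [IsScalarTower A B B'] [Fintype (MaximalSpectrum B')]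
    (hinj : Function.Injective (algebraMap B B')) (hB' : CycAlg.IsFinExt A B' (maximalIdeal A)) {a b : A}
    (ha : a ∈ nonZeroDivisors A) (hb : b ∈ nonZeroDivisors A) (hab : a * b ∈ maximalIdeal A)
    (G : ∀ k : MaximalSpectrum B', Fac (Localization.AtPrime k.asIdeal) (algebraMap A _ a) (algebraMap A _ b))
    (j : MaximalSpectrum B) [DecidableEq (Ideal B)]
    (F : Fac (Localization.AtPrime j.asIdeal) (algebraMap A _ a) (algebraMap A _ b)) :
    ∏ k ∈ Finset.univ.filter (fun k : MaximalSpectrum B' => k.asIdeal.comap (algebraMap B B') = j.asIdeal),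
      nrm (A := A) k (G k).val = nrm (A := A) j F.val := by
  classical
  have : Module.Finite B B' := Module.Finite.of_restrictScalars_finite A B B'
  set p := j.asIdeal with hp
  set S := Finset.univ.filter (fun k : MaximalSpectrum B' => k.asIdeal.comap (algebraMap B B') = p)
  have hdim : ∀ k : MaximalSpectrum B', Ring.KrullDimLE 1 (Localization.AtPrime k.asIdeal) :=
    fun k => krullDimLE_atPrime (A := A) k.asIdeal
  have : Ring.KrullDimLE 1 (Localization.AtPrime p) := krullDimLE_atPrime (A := A) p
  have : IsNoetherianRing B := isNoetherian_of_tower A inferInstance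
  have : IsNoetherianRing B' := isNoetherian_of_tower A inferInstance
  have := Lattice.isLocalHom_atPrime (A := A) p
  -- one of the elements is not a unit
  obtain ⟨c, hcA, hcm, eF, hcF, hceq, heF⟩ : ∃ (c : A), c ∈ nonZeroDivisors A ∧ c ∈ maximalIdeal A ∧
      ∃ (eF : ℕ), (eF = F.e ∧ c = a ∨ eF = F.f ∧ c = b) ∧
        (∃ w : (Localization.AtPrime p)ˣ, algebraMap A (Localization.AtPrime p) c = w * F.π ^ eF) ∧ eF ≠ 0 := by
    rcases (Ideal.IsPrime.mem_or_mem (inferInstance : (maximalIdeal A).IsPrime) hab) with h | h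
    · refine ⟨a, ha, h, F.e, Or.inl ⟨rfl, rfl⟩, ⟨F.u, F.ha⟩, fun h0 => h ?_⟩
      refine IsUnit.of_map (algebraMap A (Localization.AtPrime p)) a ?_
      rw [F.ha, h0, pow_zero, mul_one]; exact F.u.isUnit
    · refine ⟨b, hb, h, F.f, Or.inr ⟨rfl, rfl⟩, ⟨F.v, F.hb⟩, fun h0 => h ?_⟩
      refine IsUnit.of_map (algebraMap A (Localization.AtPrime p)) b ?_
      rw [F.hb, h0, pow_zero, mul_one]; exact F.v.isUnit
  obtain ⟨w, hw⟩ := hceq
  have hreg : ∀ k : MaximalSpectrum B', algebraMap A (Localization.AtPrime k.asIdeal) c ∈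
      nonZeroDivisors (Localization.AtPrime k.asIdeal) := fun k => by
    rcases hcF with ⟨-, rfl⟩ | ⟨-, rfl⟩
    exacts [(G k).mem_left, (G k).mem_right]
  have hsum := sum_resDeg_ord hinj hB' hcA hcm (mem_nonZeroDivisors_of_local fun k => by
    rw [← IsScalarTower.algebraMap_apply]; exact hreg k) p
  set m := (Ring.ord (Localization.AtPrime p) F.π).toNat with hm
  have hcp : algebraMap A (Localization.AtPrime p) c ∈ nonZeroDivisors (Localization.AtPrime p) := by
    rw [hw]; exact mul_mem w.isUnit.mem_nonZeroDivisors (pow_mem F.hπ _)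
  have ordc : (Ring.ord (Localization.AtPrime p) (algebraMap A (Localization.AtPrime p) c)).toNat = eF * m := by
    rw [hw, Ring.ord_mul_of_isUnit_left w.isUnit, Ring.ord_pow F.hπ, nsmul_eq_mul, ENat.toNat_mul, ENat.toNat_natCast]
  -- the factorisation upstairs
  have key : ∀ k ∈ S, ∃ mk : ℕ,
      (Ring.ord (Localization.AtPrime k.asIdeal) (algebraMap A (Localization.AtPrime k.asIdeal) c)).toNat = eF * mk ∧
      nrm (A := A) k (G k).val = nrm (A := A) j F.base ^ (LocLen.resDeg p k.asIdeal * mk) := by
    intro k hk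
    have hk' : k.asIdeal.comap (algebraMap B B') = p := (Finset.mem_filter.1 hk).2
    have : k.asIdeal.LiesOver p := ⟨hk'.symm⟩
    let g := algebraMap (Localization.AtPrime p) (Localization.AtPrime k.asIdeal)
    have hg : ∀ x : A, g (algebraMap A (Localization.AtPrime p) x) = algebraMap A (Localization.AtPrime k.asIdeal) x :=
      fun x => by
        rw [IsScalarTower.algebraMap_apply A B (Localization.AtPrime p)]
        change Localization.localRingHom p k.asIdeal (algebraMap B B') _ _ = _
        rw [Localization.localRingHom_to_map, ← IsScalarTower.algebraMap_apply A B B',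
          ← IsScalarTower.algebraMap_apply A B' (Localization.AtPrime k.asIdeal)]
    have hπ : g F.π ∈ nonZeroDivisors (Localization.AtPrime k.asIdeal) := by
      have h1 := hreg k
      rw [← hg c, hw, map_mul, map_pow] at h1
      have h2 := (mul_mem_nonZeroDivisors.1 h1).2
      obtain ⟨n, hn⟩ := Nat.exists_eq_succ_of_ne_zero heF
      rw [hn, pow_succ'] at h2
      exact (mul_mem_nonZeroDivisors.1 h2).1
    let F' := (F.map g hπ).cast (hg a) (hg b)
    refine ⟨(Ring.ord (Localization.AtPrime k.asIdeal) (g F.π)).toNat, ?_, ?_⟩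
    · rw [← hg c, hw, map_mul, map_pow, Ring.ord_mul_of_isUnit_left (w.isUnit.map g), Ring.ord_pow hπ,
        nsmul_eq_mul, ENat.toNat_mul, ENat.toNat_natCast]
    · rw [(G k).val_eq F']
      have := Lattice.isLocalHom_atPrime (A := A) k.asIdeal
      have hb' : F'.base = algebraMap (ResidueField (Localization.AtPrime p))
          (ResidueField (Localization.AtPrime k.asIdeal)) F.base := by
        simp only [Fac.base, F', Fac.cast, Fac.map, map_mul, map_pow, map_inv₀, map_neg, map_one]
        rfl
      have : IsScalarTower (ResidueField A) (ResidueField (Localization.AtPrime p))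
          (ResidueField (Localization.AtPrime k.asIdeal)) := IsScalarTower.of_algebraMap_eq fun x => by
        obtain ⟨x, rfl⟩ := residue_surjective x
        exact congrArg (residue _) (hg x).symm
      have : Module.Finite (ResidueField A) (ResidueField (Localization.AtPrime p)) := by
        have : Module.Finite A (ResidueField (Localization.AtPrime p)) :=
          Module.Finite.of_surjective ((Algebra.linearMap B (ResidueField (Localization.AtPrime p))).restrictScalars A)
            fun y => by
              obtain ⟨x, rfl⟩ := (Ideal.bijective_algebraMap_quotient_residueField p).2 y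
              obtain ⟨x, rfl⟩ := Ideal.Quotient.mk_surjective x
              exact ⟨x, rfl⟩
        exact Module.Finite.of_restrictScalars_finite A _ _
      have : Module.Finite (ResidueField (Localization.AtPrime p)) (ResidueField (Localization.AtPrime k.asIdeal)) :=
        LocLen.finite_residueField p k.asIdeal
      rw [Fac.val, nrm_pow, pow_mul, hb']
      congr 1
      rw [LocLen.resDeg, dif_pos ‹_›]
      change Algebra.norm (ResidueField A) _ = Algebra.norm (ResidueField A) F.base ^ _
      rw [← Algebra.norm_norm (R := ResidueField A) (S := ResidueField (Localization.AtPrime p)),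
        Algebra.norm_algebraMap, map_pow]
  choose! mk hmk1 hmk2 using key
  rw [Finset.prod_congr rfl hmk2, Finset.prod_pow_eq_pow_sum, Fac.val, nrm_pow]
  congr 1
  refine Nat.eq_of_mul_eq_mul_left (Nat.pos_of_ne_zero heF) ?_
  rw [← hm, ← ordc, hsum, ENat.toNat_sum fun k _ => ?_, Finset.mul_sum]
  · refine (Finset.sum_subset (Finset.subset_univ S) fun k _ hk => ?_).symm.trans ?_ |>.symm
    · rw [LocLen.resDeg, dif_neg fun h => hk (Finset.mem_filter.2 ⟨Finset.mem_univ _, h.over.symm⟩)]
      simp
    · refine Finset.sum_congr rfl fun k hk => ?_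
      rw [ENat.toNat_mul, ENat.toNat_natCast, hmk1 k hk]
      ring
  · exact WithTop.mul_ne_top (ENat.coe_ne_top _) (Ring.ord_ne_top (hreg k))

end Global

end Groth.Agent.Lib.Tame.Value
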