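import Groth.Agent.Lib.Tame.DetNorm
import Groth.Agent.Lib.Tame.Value
import Groth.Agent.Lib.CycDet.Flag
import Mathlib.RingTheory.Flat.Stability
import Mathlib.RingTheory.IsTensorProduct
import Mathlib.RingTheory.TensorProduct.Quotient
import Mathlib.RingTheory.Norm.Defs

/-!
# Norms and local lengths along a flat local base change
-/

set_option autoImplicit false

universe u

open IsLocalRing TensorProduct Groth.Agent.Lib.Tame Groth.Agent.Lib.Tame.LocLen

attribute [local instance] Algebra.TensorProduct.rightAlgebra

namespace Groth.Agent.Lib.Tame.FlatBase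

variable {A A' : Type u} [CommRing A] [CommRing A'] [IsLocalRing A] [IsLocalRing A'] [Algebra A A']
  {B : Type u} [CommRing B] [Algebra A B] [Module.Finite A B] (q : MaximalSpectrum B)

local notation "B'" => A' ⊗[A] B
local notation "mA" => Ideal.map (algebraMap A A') (maximalIdeal A)

/-- `qB' + IB'`. -/
noncomputable def J (I : Ideal A') : Ideal B' :=
  q.asIdeal.map (algebraMap B B') ⊔ I.map (algebraMap A' B')

theorem mA_le_comap : (maximalIdeal A) ≤ q.asIdeal.comap (algebraMap A B) :=
  (IsLocalRing.eq_maximalIdeal (Ideal.isMaximal_comap_of_isIntegral_of_isMaximal q.asIdeal)).ge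

theorem finite_residue :
    haveI := Lattice.isLocalHom_atPrime (A := A) q.asIdeal
    Module.Finite (ResidueField A) q.asIdeal.ResidueField := by
  have := Lattice.isLocalHom_atPrime (A := A) q.asIdeal
  have : Module.Finite A (ResidueField (Localization.AtPrime q.asIdeal)) :=
    Module.Finite.of_surjective ((Algebra.linearMap B q.asIdeal.ResidueField).restrictScalars A) fun y => by
      obtain ⟨x, rfl⟩ := (Ideal.bijective_algebraMap_quotient_residueField q.asIdeal).2 y
      obtain ⟨x, rfl⟩ := Ideal.Quotient.mk_surjective x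
      exact ⟨x, rfl⟩
  exact Module.Finite.of_restrictScalars_finite A _ _

/-- Coordinates on `B'/qB'`. -/
theorem exists_coord [IsLocalHom (algebraMap A A')] : ∃ (d : ℕ) (b : Fin d → B)
    (Φ : Fin d → B' →ₗ[A'] A' ⧸ (maximalIdeal A).map (algebraMap A A')),
    (∀ y : B', ∃ c : Fin d → A', y - ∑ i, c i • algebraMap B B' (b i) ∈ q.asIdeal.map (algebraMap B B')) ∧
    (∀ i j, Φ i (algebraMap B B' (b j)) = if i = j then 1 else 0) ∧
    (∀ (i : Fin d) (x : B'), x ∈ q.asIdeal.map (algebraMap B B') → Φ i x = 0) ∧
    ∀ x : B, ∃ M : Matrix (Fin d) (Fin d) A,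
      (∀ j, x * b j - ∑ i, algebraMap A B (M i j) * b i ∈ q.asIdeal) ∧
      Value.nrm (A := A) q (algebraMap B q.asIdeal.ResidueField x) = (M.map (residue A)).det := by
  classical
  have := Lattice.isLocalHom_atPrime (A := A) q.asIdeal
  have := finite_residue (A := A) q
  set F := q.asIdeal.ResidueField
  let bF := Module.finBasis (ResidueField A) F
  have hsurj : Function.Surjective (algebraMap B F) := fun y => by
    obtain ⟨x, rfl⟩ := (Ideal.bijective_algebraMap_quotient_residueField q.asIdeal).2 y
    obtain ⟨x, rfl⟩ := Ideal.Quotient.mk_surjective x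
    exact ⟨x, rfl⟩
  choose b hb using fun i => hsurj (bF i)
  let φ' : ResidueField A →ₗ[A] A' ⧸ (maximalIdeal A).map (algebraMap A A') :=
    Submodule.liftQ (maximalIdeal A) (Algebra.linearMap A _) fun r hr => by
      rw [LinearMap.mem_ker, Algebra.linearMap_apply, IsScalarTower.algebraMap_apply A A',
        Ideal.Quotient.algebraMap_eq, Ideal.Quotient.eq_zero_iff_mem]
      exact Ideal.mem_map_of_mem _ hr
  let ψ : Fin _ → B →ₗ[A] A' ⧸ (maximalIdeal A).map (algebraMap A A') := fun i =>
    φ' ∘ₗ ((bF.coord i).restrictScalars A) ∘ₗ ((Algebra.linearMap B F).restrictScalars A)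
  have hψq : ∀ (i) (r : B), r ∈ q.asIdeal → ψ i r = 0 := fun i r hr => by
    show φ' (bF.coord i (algebraMap B F r)) = 0
    rw [Ideal.algebraMap_residueField_eq_zero.2 hr, map_zero, map_zero]
  have key : ∀ z : B, ∃ r : Fin _ → A, z - ∑ i, algebraMap A B (r i) * b i ∈ q.asIdeal ∧
      ∀ i, residue A (r i) = bF.repr (algebraMap B F z) i := fun z => by
    choose r hr using fun i => residue_surjective (bF.repr (algebraMap B F z) i)
    refine ⟨r, ?_, hr⟩
    rw [← Ideal.algebraMap_residueField_eq_zero, map_sub, map_sum, sub_eq_zero]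
    conv_lhs => rw [← bF.sum_repr (algebraMap B F z)]
    refine Finset.sum_congr rfl fun i _ => ?_
    rw [map_mul, hb, ← hr i, ← IsScalarTower.algebraMap_apply A B F, Algebra.smul_def]
    rfl
  refine ⟨_, b, fun i => (ψ i).liftBaseChange A', fun y => ?_, fun i j => ?_, fun i x hx => ?_, fun x => ?_⟩
  · induction y using TensorProduct.induction_on with
    | zero => exact ⟨0, by simp⟩
    | tmul a z =>
      obtain ⟨r, hr, -⟩ := key z
      refine ⟨fun i => r i • a, ?_⟩
      have e : a ⊗ₜ[A] z - ∑ i, (r i • a) • algebraMap B B' (b i) =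
          (a ⊗ₜ[A] (1 : B)) * algebraMap B B' (z - ∑ i, algebraMap A B (r i) * b i) := by
        simp only [Algebra.TensorProduct.right_algebraMap_apply, tmul_sub, mul_sub, tmul_sum, Finset.mul_sum,
          Algebra.TensorProduct.tmul_mul_tmul, mul_one, one_mul, smul_tmul', smul_eq_mul, ← Algebra.smul_def,
          smul_tmul]
      rw [e]
      exact Ideal.mul_mem_left _ _ (Ideal.mem_map_of_mem _ hr)
    | add y z hy hz =>
      obtain ⟨c, hc⟩ := hy
      obtain ⟨c', hc'⟩ := hz
      refine ⟨c + c', ?_⟩
      have := add_mem hc hc'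
      rw [sub_add_sub_comm, ← Finset.sum_add_distrib] at this
      simpa only [Pi.add_apply, add_smul] using this
  · rw [Algebra.TensorProduct.right_algebraMap_apply, LinearMap.liftBaseChange_tmul, one_smul]
    show φ' (bF.coord i (algebraMap B F (b j))) = _
    rw [hb, Module.Basis.coord_apply, bF.repr_self, Finsupp.single_apply]
    by_cases h : j = i
    · rw [if_pos h, if_pos h.symm]
      exact map_one (algebraMap A (A' ⧸ mA))
    · rw [if_neg h, if_neg (Ne.symm h), map_zero]
  · suffices ∀ y : B', (ψ i).liftBaseChange A' (y * x) = 0 by simpa using this 1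
    rw [Ideal.map] at hx
    induction hx using Submodule.span_induction with
    | mem x hx =>
      obtain ⟨r, hr, rfl⟩ := hx
      intro y
      induction y using TensorProduct.induction_on with
      | zero => simp
      | tmul a z =>
        rw [Algebra.TensorProduct.right_algebraMap_apply, Algebra.TensorProduct.tmul_mul_tmul, mul_one,
          LinearMap.liftBaseChange_tmul, hψq i _ (Ideal.mul_mem_left _ z hr), smul_zero]
      | add a c ha hc => rw [add_mul, map_add, ha, hc, add_zero]
    | zero => intro y; simp
    | add a c _ _ ha hc => intro y; rw [mul_add, map_add, ha, hc, add_zero]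
    | smul a c _ hc => intro y; rw [smul_eq_mul, ← mul_assoc]; exact hc _
  · choose M hM hMres using fun j => key (x * b j)
    refine ⟨Matrix.of fun i j => M j i, hM, ?_⟩
    show Algebra.norm (ResidueField A) _ = _
    rw [Algebra.norm_eq_matrix_det bF]
    congr 1
    ext i j
    rw [Algebra.leftMulMatrix_eq_repr_mul, Matrix.map_apply, Matrix.of_apply, hMres, map_mul (algebraMap B F), hb]

/-- The lengths along `B'/qB'` are multiples of those along the closed fibre, whose determinant is the norm. -/
theorem fibre [IsLocalHom (algebraMap A A')] [Fintype (MaximalSpectrum B')] (x : B)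
    (hfin : IsFiniteLength A' (A' ⧸ (maximalIdeal A).map (algebraMap A A'))) :
    ∃ μ : MaximalSpectrum B' → ℕ,
      (∀ K : MaximalSpectrum B', locLen K.asIdeal (B' ⧸ q.asIdeal.map (algebraMap B B')) =
        ((Module.length A' (A' ⧸ (maximalIdeal A).map (algebraMap A A'))).toNat * μ K : ℕ)) ∧
      ∏ K : MaximalSpectrum B', Value.nrm (A := A') K (algebraMap B' K.asIdeal.ResidueField (algebraMap B B' x)) ^ μ K =
        ResidueField.map (algebraMap A A') (Value.nrm (A := A) q (algebraMap B q.asIdeal.ResidueField x)) := by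
  classical
  obtain ⟨d, b, Φ, hspan, hΦb, hΦq, hmat⟩ := exists_coord (A := A) (A' := A') q
  have hmA : mA ≤ maximalIdeal A' := Ideal.map_le_iff_le_comap.2 fun r hr => by
    rw [Ideal.mem_comap, mem_maximalIdeal, mem_nonunits_iff]
    exact fun h => (mem_maximalIdeal r).1 hr (IsUnit.of_map (algebraMap A A') r h)
  have hΦ : ∀ (c : Fin d → A') (j : Fin d), Φ j (∑ i, c i • algebraMap B B' (b i)) = Ideal.Quotient.mk mA (c j) := by
    intro c j
    simp only [map_sum, map_smul, hΦb, smul_ite, smul_zero, Finset.sum_ite_eq, Finset.mem_univ, if_true]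
    exact (Algebra.algebraMap_eq_smul_one (c j)).symm
  have hsum : ∀ {I : Ideal A'} (c : Fin d → A'), (∀ i, c i ∈ I) →
      ∑ i, c i • algebraMap B B' (b i) ∈ J q I := fun {I} c hc =>
    sum_mem fun i _ => Ideal.mem_sup_right (by
      rw [Algebra.smul_def]; exact Ideal.mul_mem_right _ _ (Ideal.mem_map_of_mem _ (hc i)))
  have mem_J : ∀ (I : Ideal A'), mA ≤ I → ∀ y : B', y ∈ J q I ↔ ∀ j, Φ j y ∈ I.map (Ideal.Quotient.mk mA) := by
    intro I hI y
    constructor
    · intro hy j
      obtain ⟨u, hu, v, hv, rfl⟩ := Submodule.mem_sup.1 hy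
      rw [map_add, hΦq j u hu, zero_add]
      suffices ∀ z : B', Φ j (z * v) ∈ I.map (Ideal.Quotient.mk mA) by simpa using this 1
      clear hy
      rw [Ideal.map] at hv
      induction hv using Submodule.span_induction with
      | mem v hv =>
        obtain ⟨a, ha, rfl⟩ := hv
        intro z
        rw [mul_comm, ← Algebra.smul_def, map_smul, Algebra.smul_def, Ideal.Quotient.algebraMap_eq]
        exact Ideal.mul_mem_right _ _ (Ideal.mem_map_of_mem _ ha)
      | zero => intro z; simp
      | add a c _ _ ha hc => intro z; rw [mul_add, map_add]; exact add_mem (ha z) (hc z)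
      | smul a c _ hc => intro z; rw [smul_eq_mul, ← mul_assoc]; exact hc _
    · intro hy
      obtain ⟨c, hc⟩ := hspan y
      rw [← sub_add_cancel y (∑ i, c i • algebraMap B B' (b i))]
      refine add_mem (Ideal.mem_sup_left hc) (hsum c fun j => ?_)
      have h1 := hy j
      rw [← sub_add_cancel y (∑ i, c i • algebraMap B B' (b i)), map_add, hΦq j _ hc, zero_add, hΦ,
        Ideal.mem_quotient_iff_mem hI] at h1
      exact h1
  have hJle : ∀ {I I' : Ideal A'}, I ≤ I' → J (A := A) q I ≤ J (A := A) q I' := fun h => sup_le_sup_left (Ideal.map_mono h) _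
  have hJ0 : J (A := A) (A' := A') q mA = q.asIdeal.map (algebraMap B B') := by
    refine sup_eq_left.2 ?_
    rw [Ideal.map_map, Ideal.map_le_iff_le_comap]
    intro r hr
    rw [Ideal.mem_comap, RingHom.comp_apply, ← IsScalarTower.algebraMap_apply,
      IsScalarTower.algebraMap_apply A B B']
    exact Ideal.mem_map_of_mem _ (mA_le_comap (A := A) q hr)
  -- the closed fibre
  set J1 := J (A := A) (A' := A') q (maximalIdeal A')
  set C := B' ⧸ J1
  let f : ResidueField A' →+* C := Ideal.Quotient.lift (maximalIdeal A')
    ((Ideal.Quotient.mk J1).comp (algebraMap A' B')) fun a ha => Ideal.Quotient.eq_zero_iff_mem.2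
      (Ideal.mem_sup_right (Ideal.mem_map_of_mem _ ha))
  let := f.toAlgebra
  have : IsScalarTower A' (ResidueField A') C := IsScalarTower.of_algebraMap_eq fun a => rfl
  have hfC : Module.Finite A' C := Module.Finite.of_surjective (Ideal.Quotient.mkₐ A' J1).toLinearMap
    Ideal.Quotient.mk_surjective
  have : Module.Finite (ResidueField A') C := Module.Finite.of_restrictScalars_finite A' _ _
  have : IsArtinian C C := isArtinian_of_tower (ResidueField A') inferInstance
  have hflC : IsFiniteLength C C := isFiniteLength_iff_isNoetherian_isArtinian.2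
    ⟨isNoetherian_of_tower (ResidueField A') inferInstance, inferInstance⟩
  have hCB : IsFiniteLength B' C := by
    rw [← Module.length_ne_top_iff] at hflC ⊢
    rwa [Module.length_eq_of_surjective (R := C) (S := B') Ideal.Quotient.mk_surjective]
  let μ : MaximalSpectrum B' → ℕ := fun K => (locLen K.asIdeal C).toNat
  have hμ : ∀ K : MaximalSpectrum B', locLen K.asIdeal C = μ K := fun K =>
    (ENat.natCast_toNat (locLen_ne_top K.asIdeal K.isMaximal hCB)).symm
  have hlayer : ∀ (n : ℕ) (I : Ideal A'), mA ≤ I → CycDet.len (R := A') I = n →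
      ∀ K : MaximalSpectrum B', locLen K.asIdeal (B' ⧸ J q I) = (n * μ K : ℕ) := by
    intro n
    induction n with
    | zero =>
      intro I _ hI K
      have htop : J (A := A) q I = ⊤ := by
        rw [CycDet.len_eq_zero_iff.1 hI, J, Ideal.map_top, sup_top_eq]
      have : Subsingleton (B' ⧸ J q I) := Submodule.Quotient.subsingleton_iff.2 htop
      simp [locLen_subsingleton]
    | succ n ih =>
      intro I hIA hI K
      obtain ⟨w, hw, hwI⟩ := CycDet.exists_soc_notMem (R := A') hI
      set I' := I ⊔ Submodule.span A' {w}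
      have hJw : J1 ≤ Submodule.comap (LinearMap.lsmul B' B' (algebraMap A' B' w)) (J q I) := by
        intro y hy
        show algebraMap A' B' w * y ∈ J q I
        rw [mem_J I hIA]
        intro j
        obtain ⟨a, ha, e⟩ := (Ideal.mem_map_iff_of_surjective _ Ideal.Quotient.mk_surjective).1
          ((mem_J _ hmA y).1 hy j)
        rw [← Algebra.smul_def, map_smul, ← e, Algebra.smul_def, Ideal.Quotient.algebraMap_eq, ← map_mul]
        exact Ideal.mem_map_of_mem _ (by rw [mul_comm]; exact hw a ha)
      rw [locLen_add K.asIdeal (f := J1.mapQ (J q I) (LinearMap.lsmul B' B' (algebraMap A' B' w)) hJw)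
        (g := Submodule.factor (hJle (le_sup_left : I ≤ I'))) ?_ (Submodule.factor_surjective _) ?_, hμ,
        ih I' (hIA.trans le_sup_left) (CycDet.len_sup_eq hw hwI hI) K]
      · push_cast; ring
      · rw [← LinearMap.ker_eq_bot]
        refine Submodule.ker_liftQ_eq_bot _ _ _ fun y hy => ?_
        rw [LinearMap.mem_ker, LinearMap.comp_apply, Submodule.mkQ_apply, Submodule.Quotient.mk_eq_zero] at hy
        change algebraMap A' B' w * y ∈ J q I at hy
        rw [mem_J I hIA] at hy
        rw [mem_J _ hmA]
        intro j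
        obtain ⟨a, ha⟩ := Ideal.Quotient.mk_surjective (Φ j y)
        have h1 := hy j
        rw [← Algebra.smul_def, map_smul, ← ha, Algebra.smul_def, Ideal.Quotient.algebraMap_eq, ← map_mul,
          Ideal.mem_quotient_iff_mem hIA] at h1
        rw [← ha, Ideal.mem_quotient_iff_mem hmA]
        by_contra hna
        obtain ⟨u, rfl⟩ := CycDet.isUnit_of_notMem_maximalIdeal hna
        exact hwI ((Ideal.mul_unit_mem_iff_mem I u.isUnit).1 h1)
      · rw [LinearMap.exact_iff]
        simp only [Submodule.factor, Submodule.mapQ, Submodule.range_liftQ]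
        rw [Submodule.ker_liftQ, LinearMap.ker_comp, Submodule.ker_mkQ, LinearMap.range_comp, Submodule.comap_id]
        change Submodule.map (J (A := A) q I).mkQ (J (A := A) q I') = _
        refine le_antisymm ?_ ?_
        · rw [Submodule.map_le_iff_le_comap, Submodule.comap_map_mkQ]
          refine sup_le (le_sup_left.trans le_sup_left) ?_
          rw [Ideal.map_sup]
          refine sup_le (le_sup_right.trans le_sup_left) (le_trans ?_ le_sup_right)
          rw [Ideal.submodule_span_eq, Ideal.map_span, Set.image_singleton, Ideal.span_le,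
            Set.singleton_subset_iff]
          exact ⟨1, mul_one _⟩
        · refine Submodule.map_mono ?_
          rintro _ ⟨y, rfl⟩
          exact Ideal.mem_sup_right (Ideal.mul_mem_right y _
            (Ideal.mem_map_of_mem _ (Submodule.mem_sup_right (Submodule.mem_span_singleton_self w))))
  refine ⟨μ, fun K => ?_, ?_⟩
  · rw [← hJ0]
    exact hlayer _ mA le_rfl (ENat.natCast_toNat (Module.length_ne_top_iff.2 hfin)).symm K
  -- the determinant
  have hdet := DetNorm.det_lsmul_eq_prod (K := ResidueField A') (C := C) Ideal.Quotient.mk_surjective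
    (algebraMap B B' x) (fun K => Value.nrm (A := A') K (algebraMap B' K.asIdeal.ResidueField (algebraMap B B' x)))
    ?_ hflC
  · have hv : ∀ c : Fin d → ResidueField A', ∀ i, ∃ a, residue A' a = c i := fun c i => residue_surjective (c i)
    let v : Fin d → C := fun i => algebraMap B' C (algebraMap B B' (b i))
    have hsm : ∀ (a : A') (i : Fin d), residue A' a • v i = Ideal.Quotient.mk J1 (a • algebraMap B B' (b i)) :=
      fun a i => by
        rw [Algebra.smul_def, Algebra.smul_def, map_mul]
        rfl
    have hind : LinearIndependent (ResidueField A') v := by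
      rw [Fintype.linearIndependent_iff]
      intro g hg j
      choose a ha using hv g
      simp only [← ha, hsm, ← map_sum] at hg ⊢
      rw [Ideal.Quotient.eq_zero_iff_mem, mem_J _ hmA] at hg
      have h1 := hg j
      rw [hΦ, Ideal.mem_quotient_iff_mem hmA] at h1
      exact (residue_eq_zero_iff _).2 h1
    have hsp : ⊤ ≤ Submodule.span (ResidueField A') (Set.range v) := by
      intro z _
      obtain ⟨y, rfl⟩ := Ideal.Quotient.mk_surjective z
      obtain ⟨c, hc⟩ := hspan y
      rw [show Ideal.Quotient.mk J1 y = Ideal.Quotient.mk J1 (∑ i, c i • algebraMap B B' (b i)) from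
        Ideal.Quotient.eq.2 (Ideal.mem_sup_left hc), map_sum]
      refine sum_mem fun i _ => ?_
      rw [← hsm]
      exact Submodule.smul_mem _ _ (Submodule.subset_span ⟨i, rfl⟩)
    let bC := Module.Basis.mk hind hsp
    obtain ⟨M, hM, hN⟩ := hmat x
    rw [← hdet, show Value.nrm (A := A) q (algebraMap B q.asIdeal.ResidueField x) = _ from hN, RingHom.map_det,
      show Algebra.lsmul (ResidueField A') (ResidueField A') C (algebraMap B' C (algebraMap B B' x)) =
        Algebra.lmul (ResidueField A') C (algebraMap B' C (algebraMap B B' x)) from rfl,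
      ← Algebra.norm_apply, Algebra.norm_eq_matrix_det bC]
    congr 1
    ext i j
    rw [Algebra.leftMulMatrix_eq_repr_mul, RingHom.mapMatrix_apply, Matrix.map_apply, Matrix.map_apply,
      ResidueField.map_residue]
    have e : algebraMap B' C (algebraMap B B' x) * bC j =
        ∑ i, residue A' (algebraMap A A' (M i j)) • bC i := by
      simp only [bC, Module.Basis.mk_apply, hsm, ← map_sum, v, ← map_mul]
      refine Ideal.Quotient.eq.2 (Ideal.mem_sup_left ?_)
      have e1 := Ideal.mem_map_of_mem (algebraMap B B') (hM j)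
      convert e1 using 1
      rw [map_sub, map_sum, map_mul]
      refine congrArg _ (Finset.sum_congr rfl fun i _ => ?_)
      rw [algebraMap_smul, map_mul, ← IsScalarTower.algebraMap_apply A B B', Algebra.smul_def]
    rw [e, Module.Basis.repr_sum_self]
  · intro K n hn hKn
    have := Lattice.isLocalHom_atPrime (A := A') K.asIdeal
    let h : C →+* K.asIdeal.ResidueField := Ideal.Quotient.lift J1 (algebraMap B' _) fun y hy => by
      rw [Ideal.algebraMap_residueField_eq_zero, ← hKn, Ideal.mem_comap]
      rw [show algebraMap B' C y = 0 from Ideal.Quotient.eq_zero_iff_mem.2 hy]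
      exact n.zero_mem
    let hA : C →ₐ[ResidueField A'] K.asIdeal.ResidueField :=
      { h with commutes' := fun r => by obtain ⟨a, rfl⟩ := residue_surjective r; rfl }
    have hsurj : Function.Surjective hA := fun z => by
      obtain ⟨z, rfl⟩ := (Ideal.bijective_algebraMap_quotient_residueField K.asIdeal).2 z
      obtain ⟨z, rfl⟩ := Ideal.Quotient.mk_surjective z
      exact ⟨algebraMap B' C z, rfl⟩
    have hker : RingHom.ker hA = n := by
      ext z
      obtain ⟨z, rfl⟩ := Ideal.Quotient.mk_surjective z
      show algebraMap B' K.asIdeal.ResidueField z = 0 ↔ _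
      rw [Ideal.algebraMap_residueField_eq_zero, ← hKn]
      rfl
    exact Algebra.norm_eq_of_algEquiv
      ((Ideal.quotientEquivAlgOfEq (ResidueField A') hker.symm).trans
        (Ideal.quotientKerAlgEquivOfSurjective hsurj)) _ |>.symm

/-- The product of the norms weighted by the local lengths of a base change. -/
theorem prod_pow_locLen [IsNoetherianRing A] [IsLocalHom (algebraMap A A')] [Module.Flat A A']
    [Fintype (MaximalSpectrum B')] (x : B) [DecidableEq (Ideal B)]
    (hfin : IsFiniteLength A' (A' ⧸ (maximalIdeal A).map (algebraMap A A')))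
    {M : Type u} [AddCommGroup M] [Module B M] (hM : IsFiniteLength B M) :
    let S := Finset.univ.filter (fun K : MaximalSpectrum B' => K.asIdeal.comap (algebraMap B B') = q.asIdeal)
    (∀ K ∈ S, locLen K.asIdeal (B' ⊗[B] M) ≠ ⊤) ∧
      ∏ K ∈ S, Value.nrm (A := A') K (algebraMap B' K.asIdeal.ResidueField (algebraMap B B' x)) ^
          (locLen K.asIdeal (B' ⊗[B] M)).toNat =
        ResidueField.map (algebraMap A A') (Value.nrm (A := A) q (algebraMap B q.asIdeal.ResidueField x)) ^
          ((Module.length A' (A' ⧸ (maximalIdeal A).map (algebraMap A A'))).toNat * (locLen q.asIdeal M).toNat) := by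
  classical
  intro S
  have : Module.Flat B B' := by
    have : Algebra.IsPushout A B A' B' := inferInstance
    exact Module.Flat.isBaseChange A B A' B' this.out
  induction hM with
  | @of_subsingleton M _ _ _ =>
    have h0 : ∀ K : MaximalSpectrum B', locLen K.asIdeal (B' ⊗[B] M) = 0 := fun K => by
      have : Subsingleton (B' ⊗[B] M) := inferInstance
      exact locLen_subsingleton _
    simp [h0, locLen_subsingleton]
  | @of_simple_quotient M _ _ N _ hNfl ih =>
    obtain ⟨k, hk, ⟨e⟩⟩ := exists_equiv_quotient_of_isSimpleModule (R := B) (M := M ⧸ N)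
    have hQ : (∀ K ∈ S, locLen K.asIdeal (B' ⊗[B] (M ⧸ N)) ≠ ⊤) ∧
        ∏ K ∈ S, Value.nrm (A := A') K (algebraMap B' K.asIdeal.ResidueField (algebraMap B B' x)) ^
            (locLen K.asIdeal (B' ⊗[B] (M ⧸ N))).toNat =
          ResidueField.map (algebraMap A A') (Value.nrm (A := A) q (algebraMap B q.asIdeal.ResidueField x)) ^
            ((Module.length A' (A' ⧸ (maximalIdeal A).map (algebraMap A A'))).toNat *
              (locLen q.asIdeal (M ⧸ N)).toNat) := by
      let e' : B' ⊗[B] (M ⧸ N) ≃ₗ[B'] B' ⧸ k.map (algebraMap B B') :=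
        (LinearEquiv.baseChange B B' _ _ e).trans
          (Algebra.TensorProduct.quotIdealMapEquivTensorQuot B' k).symm.toLinearEquiv
      simp only [locLen_congr _ e', locLen_congr q.asIdeal e]
      by_cases hkq : k = q.asIdeal
      · subst hkq
        obtain ⟨μ, hμ, hprod⟩ := fibre q x hfin
        refine ⟨fun K _ => by rw [hμ K]; exact ENat.natCast_ne_top _, ?_⟩
        rw [locLen_self, ← hprod]
        simp only [hμ, ENat.toNat_natCast, ENat.toNat_one, mul_one]
        rw [← Finset.prod_pow]
        refine (Finset.prod_subset (Finset.subset_univ S) fun K _ hK => ?_).trans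
          (Finset.prod_congr rfl fun K _ => by rw [← pow_mul, mul_comm])
        have hn : ¬ q.asIdeal ≤ K.asIdeal.comap (algebraMap B B') := fun hle =>
          hK (Finset.mem_filter.2 ⟨Finset.mem_univ _, (q.isMaximal.eq_of_le (Ideal.IsPrime.ne_top (inferInstance)) hle).symm⟩)
        obtain ⟨s, hs, hsK⟩ := SetLike.not_le_iff_exists.1 hn
        have h0 : locLen K.asIdeal (B' ⧸ q.asIdeal.map (algebraMap B B')) = 0 := by
          refine locLen_eq_zero_of_smul _ (s := algebraMap B B' s) hsK fun z => ?_
          obtain ⟨z, rfl⟩ := Ideal.Quotient.mk_surjective z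
          exact Ideal.Quotient.eq_zero_iff_mem.2 (Ideal.mul_mem_right _ _ (Ideal.mem_map_of_mem _ hs))
        rw [hμ K, Nat.cast_eq_zero] at h0
        rw [h0, pow_zero]
      · obtain ⟨s, hs, hsq⟩ : ∃ s ∈ k, s ∉ q.asIdeal := by
          by_contra hne
          push Not at hne
          exact hkq (hk.eq_of_le q.isMaximal.ne_top hne)
        have h0 : ∀ K ∈ S, locLen K.asIdeal (B' ⧸ k.map (algebraMap B B')) = 0 := fun K hK => by
          refine locLen_eq_zero_of_smul _ (s := algebraMap B B' s) (fun h => hsq ?_) fun z => ?_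
          · rw [← (Finset.mem_filter.1 hK).2]; exact h
          obtain ⟨z, rfl⟩ := Ideal.Quotient.mk_surjective z
          exact Ideal.Quotient.eq_zero_iff_mem.2 (Ideal.mul_mem_right _ _ (Ideal.mem_map_of_mem _ hs))
        have h1 : locLen q.asIdeal (B ⧸ k) = 0 := locLen_eq_zero_of_smul _ hsq fun z => by
          obtain ⟨z, rfl⟩ := Ideal.Quotient.mk_surjective z
          exact Ideal.Quotient.eq_zero_iff_mem.2 (Ideal.mul_mem_right _ _ hs)
        refine ⟨fun K hK => by rw [h0 K hK]; exact ENat.zero_ne_top, ?_⟩
        rw [h1, Finset.prod_eq_one fun K hK => by rw [h0 K hK]; simp]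
        simp
    have hadd : ∀ K : MaximalSpectrum B', locLen K.asIdeal (B' ⊗[B] M) =
        locLen K.asIdeal (B' ⊗[B] N) + locLen K.asIdeal (B' ⊗[B] (M ⧸ N)) := fun K =>
      locLen_add K.asIdeal (f := N.subtype.baseChange B') (g := N.mkQ.baseChange B')
        (Module.Flat.lTensor_preserves_injective_linearMap _ N.injective_subtype)
        (LinearMap.lTensor_surjective _ N.mkQ_surjective)
        (lTensor_exact _ (LinearMap.exact_subtype_mkQ N) N.mkQ_surjective)
    have hfinN : locLen q.asIdeal N ≠ ⊤ := locLen_ne_top _ q.isMaximal hNfl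
    have hfinQ : locLen q.asIdeal (M ⧸ N) ≠ ⊤ := by
      rw [locLen_congr q.asIdeal e]
      refine locLen_ne_top _ q.isMaximal ?_
      have : IsSimpleModule B (B ⧸ k) := isSimpleModule_iff_quot_maximal.2 ⟨k, hk, ⟨LinearEquiv.refl _ _⟩⟩
      exact Module.length_ne_top_iff.1 (by rw [Module.length_eq_one]; exact ENat.one_ne_top)
    refine ⟨fun K hK => by rw [hadd]; exact WithTop.add_ne_top.2 ⟨ih.1 K hK, hQ.1 K hK⟩, ?_⟩
    rw [locLen_add q.asIdeal N.injective_subtype N.mkQ_surjective (LinearMap.exact_subtype_mkQ N),
      ENat.toNat_add hfinN hfinQ, mul_add, pow_add, ← ih.2, ← hQ.2, ← Finset.prod_mul_distrib]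
    refine Finset.prod_congr rfl fun K hK => ?_
    rw [← pow_add, hadd, ENat.toNat_add (ih.1 K hK) (hQ.1 K hK)]

end Groth.Agent.Lib.Tame.FlatBase
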