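import Groth.Prelude.Def_Tame
import Mathlib.RingTheory.Localization.Away.Basic
import Mathlib.RingTheory.Artinian.Module
import Mathlib.RingTheory.Ideal.GoingUp
import Mathlib.RingTheory.OrderOfVanishing.Noetherian
import Mathlib.RingTheory.Noetherian.Basic
import Mathlib.LinearAlgebra.Quotient.Pi

/-!
# Lattices in `A[1/c]`

For a one-dimensional Noetherian local ring `A` and a nonzerodivisor `c` in the maximal ideal, the
finite extensions used for the tame symbol are the finite subalgebras of `A[1/c]`.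
-/

set_option autoImplicit false

universe u

open IsLocalRing
open scoped Pointwise

namespace Groth.Agent.Lib.Tame.Lattice

section General

variable {A : Type u} [CommRing A]

/-- The quotient by the image of an injective endomorphism does not change along a finite-length
extension. -/
theorem length_quot_range_eq {M N : Type u} [AddCommGroup M] [Module A M] [AddCommGroup N] [Module A N]
    (ι : M →ₗ[A] N) (hι : Function.Injective ι) (f : M →ₗ[A] M) (g : N →ₗ[A] N) (hg : Function.Injective g)
    (h : g ∘ₗ ι = ι ∘ₗ f) (hfin : Module.length A (N ⧸ LinearMap.range ι) ≠ ⊤) :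
    Module.length A (N ⧸ LinearMap.range g) = Module.length A (M ⧸ LinearMap.range f) := by
  let K := LinearMap.range (ι ∘ₗ f)
  have hK1 : K ≤ LinearMap.range ι := LinearMap.range_comp_le_range f ι
  have hK2 : K ≤ LinearMap.range g := by rw [← show LinearMap.range (g ∘ₗ ι) = K by rw [h]]; exact LinearMap.range_comp_le_range ι g
  have h1 : Module.length A (N ⧸ K) = Module.length A (M ⧸ LinearMap.range f) + Module.length A (N ⧸ LinearMap.range ι) := by
    refine Module.length_eq_add_of_exact ((LinearMap.range f).mapQ K ι ?_) (Submodule.factor hK1) ?_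
      (Submodule.factor_surjective _) ?_
    · rintro _ ⟨m, rfl⟩; exact ⟨m, rfl⟩
    · rw [← LinearMap.ker_eq_bot]
      refine Submodule.ker_liftQ_eq_bot _ _ _ ?_
      intro m hm
      rw [LinearMap.mem_ker, LinearMap.comp_apply, Submodule.mkQ_apply, Submodule.Quotient.mk_eq_zero] at hm
      obtain ⟨m', hm'⟩ := hm
      exact ⟨m', hι hm'⟩
    · rw [LinearMap.exact_iff]
      simp only [Submodule.factor, Submodule.mapQ, Submodule.range_liftQ]
      rw [Submodule.ker_liftQ, LinearMap.ker_comp, Submodule.ker_mkQ, LinearMap.range_comp]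
      rfl
  have h2 : Module.length A (N ⧸ K) = Module.length A (N ⧸ LinearMap.range ι) + Module.length A (N ⧸ LinearMap.range g) := by
    refine Module.length_eq_add_of_exact ((LinearMap.range ι).mapQ K g ?_) (Submodule.factor hK2) ?_
      (Submodule.factor_surjective _) ?_
    · rintro _ ⟨m, rfl⟩; exact ⟨m, (LinearMap.congr_fun h m).symm⟩
    · rw [← LinearMap.ker_eq_bot]
      refine Submodule.ker_liftQ_eq_bot _ _ _ ?_
      intro n hn
      rw [LinearMap.mem_ker, LinearMap.comp_apply, Submodule.mkQ_apply, Submodule.Quotient.mk_eq_zero] at hn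
      obtain ⟨m', hm'⟩ := hn
      exact ⟨m', hg ((LinearMap.congr_fun h m').trans hm')⟩
    · rw [LinearMap.exact_iff]
      simp only [Submodule.factor, Submodule.mapQ, Submodule.range_liftQ]
      rw [Submodule.ker_liftQ, LinearMap.ker_comp, Submodule.ker_mkQ, LinearMap.range_comp]
      rfl
  rw [h2, add_comm] at h1
  exact WithTop.add_right_cancel hfin h1

variable {B : Type u} [CommRing B] [Algebra A B]

/-- The length over `A` of `B / xB`. -/
noncomputable def qlen (A : Type u) {B : Type u} [CommRing A] [CommRing B] [Algebra A B] (x : B) : ℕ∞ :=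
  Module.length A (B ⧸ LinearMap.range (LinearMap.mulLeft A x))

theorem mulLeft_injective {x : B} (hx : x ∈ nonZeroDivisors B) : Function.Injective (LinearMap.mulLeft A x) :=
  fun _ _ e => mul_cancel_left_mem_nonZeroDivisors hx |>.1 e

theorem qlen_mul {x y : B} (hx : x ∈ nonZeroDivisors B) : qlen A (x * y) = qlen A y + qlen A x := by
  have hle : LinearMap.range (LinearMap.mulLeft A (x * y)) ≤ LinearMap.range (LinearMap.mulLeft A x) := by
    rintro _ ⟨z, rfl⟩; exact ⟨y * z, (mul_assoc x y z).symm⟩
  refine Module.length_eq_add_of_exact ((LinearMap.range (LinearMap.mulLeft A y)).mapQ _ (LinearMap.mulLeft A x) ?_)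
    (Submodule.factor hle) ?_ (Submodule.factor_surjective _) ?_
  · rintro _ ⟨z, rfl⟩; exact ⟨z, mul_assoc x y z⟩
  · rw [← LinearMap.ker_eq_bot]
    refine Submodule.ker_liftQ_eq_bot _ _ _ ?_
    intro z hz
    rw [LinearMap.mem_ker, LinearMap.comp_apply, Submodule.mkQ_apply, Submodule.Quotient.mk_eq_zero] at hz
    obtain ⟨w, hw⟩ := hz
    exact ⟨w, mul_cancel_left_mem_nonZeroDivisors hx |>.1 ((mul_assoc x y w).symm.trans hw)⟩
  · rw [LinearMap.exact_iff]
    simp only [Submodule.factor, Submodule.mapQ, Submodule.range_liftQ]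
    rw [Submodule.ker_liftQ, LinearMap.ker_comp, Submodule.ker_mkQ, LinearMap.range_comp]
    rfl

theorem qlen_eq_zero_iff (x : B) : qlen A x = 0 ↔ IsUnit x := by
  rw [qlen, Module.length_eq_zero_iff, Submodule.Quotient.subsingleton_iff]
  constructor
  · intro h
    obtain ⟨y, hy⟩ := (h ▸ Submodule.mem_top : (1 : B) ∈ LinearMap.range (LinearMap.mulLeft A x))
    exact IsUnit.of_mul_eq_one y hy
  · rintro ⟨u, rfl⟩
    exact eq_top_iff.2 fun b _ => ⟨↑u⁻¹ * b, by simp⟩

variable [IsLocalRing A] [Module.Finite A B]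

theorem finite_maximalSpectrum (A B : Type u) [CommRing A] [CommRing B] [Algebra A B] [IsLocalRing A]
    [Module.Finite A B] : Finite (MaximalSpectrum B) := by
  let J := (maximalIdeal A).map (algebraMap A B)
  have : Module.Finite A (B ⧸ J) := Module.Finite.of_surjective (Ideal.Quotient.mkₐ A J).toLinearMap
    Ideal.Quotient.mk_surjective
  let : Algebra (ResidueField A) (B ⧸ J) := Ideal.Quotient.algebraQuotientOfLEComap Ideal.le_comap_map
  have : IsScalarTower A (ResidueField A) (B ⧸ J) := IsScalarTower.of_algebraMap_eq fun _ => rfl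
  have : Module.Finite (ResidueField A) (B ⧸ J) := Module.Finite.of_restrictScalars_finite A (ResidueField A) (B ⧸ J)
  have : IsArtinianRing (B ⧸ J) := IsArtinianRing.of_finite (ResidueField A) (B ⧸ J)
  have hJ : ∀ q : MaximalSpectrum B, J ≤ q.asIdeal := fun q => by
    rw [Ideal.map_le_iff_le_comap]
    have := q.isMaximal
    exact (eq_maximalIdeal (Ideal.isMaximal_comap_of_isIntegral_of_isMaximal q.asIdeal)).ge
  refine Finite.of_injective (β := MaximalSpectrum (B ⧸ J)) (fun q => ⟨q.asIdeal.map (Ideal.Quotient.mk J),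
    have := q.isMaximal
    Ideal.IsMaximal.map_of_surjective_of_ker_le Ideal.Quotient.mk_surjective (by rw [Ideal.mk_ker]; exact hJ q)⟩) ?_
  intro q q' e
  have e' := congrArg (Ideal.comap (Ideal.Quotient.mk J)) (congrArg MaximalSpectrum.asIdeal e)
  simp only [Ideal.comap_map_of_surjective _ Ideal.Quotient.mk_surjective, ← RingHom.ker_eq_comap_bot,
    Ideal.mk_ker, sup_eq_left.2 (hJ q), sup_eq_left.2 (hJ q')] at e'
  exact MaximalSpectrum.ext e'

theorem comap_eq_maximalIdeal (q : Ideal B) [q.IsMaximal] : q.comap (algebraMap A B) = maximalIdeal A :=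
  eq_maximalIdeal (Ideal.isMaximal_comap_of_isIntegral_of_isMaximal q)

theorem isLocalHom_atPrime (q : Ideal B) [q.IsMaximal] :
    IsLocalHom (algebraMap A (Localization.AtPrime q)) := by
  refine ⟨fun a ha => ?_⟩
  by_contra hn
  have hm : a ∈ maximalIdeal A := hn
  rw [← comap_eq_maximalIdeal q, Ideal.mem_comap] at hm
  rw [IsScalarTower.algebraMap_apply A B (Localization.AtPrime q)] at ha
  exact (IsLocalization.AtPrime.isUnit_to_map_iff (Localization.AtPrime q) q _).1 ha hm

end General

variable {A : Type u} [CommRing A] [IsNoetherianRing A] [IsLocalRing A] [Ring.KrullDimLE 1 A]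
variable {c : A} (hc : c ∈ nonZeroDivisors A)

/-- `A[1/c]`. -/
abbrev L (c : A) : Type u := Localization.Away c

include hc

theorem injective_algebraMap : Function.Injective (algebraMap A (L c)) :=
  IsLocalization.injective (L c) (Submonoid.powers_le.2 hc)

theorem mem_nonZeroDivisors_L {B : Subalgebra A (L c)} {x : B} (hx : IsUnit (x : L c)) :
    x ∈ nonZeroDivisors B := by
  rw [mem_nonZeroDivisors_iff_right]
  intro y hy
  have : (y : L c) * x = 0 := congrArg Subtype.val hy
  exact Subtype.ext (hx.mul_left_eq_zero.1 this)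

theorem exists_pow_smul_mem (P : Submodule A (L c)) (hP : P.FG) :
    ∃ N : ℕ, ∀ x ∈ P, c ^ N • x ∈ LinearMap.range (Algebra.linearMap A (L c)) := by
  obtain ⟨s, rfl⟩ := hP
  choose n hn using fun x : L c => IsLocalization.Away.surj c x
  refine ⟨s.sum n, fun x hx => ?_⟩
  induction hx using Submodule.span_induction with
  | mem y hy =>
    obtain ⟨a, ha⟩ := hn y
    obtain ⟨k, hk⟩ := Nat.exists_eq_add_of_le (Finset.single_le_sum (fun _ _ => Nat.zero_le _) hy : n y ≤ s.sum n)
    refine ⟨c ^ k * a, ?_⟩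
    rw [Algebra.linearMap_apply, map_mul, ← ha, hk, pow_add, Algebra.smul_def, map_mul, map_pow, map_pow]
    ring
  | zero => simp
  | add _ _ _ _ h h' => rw [smul_add]; exact add_mem h h'
  | smul r y _ h => rw [smul_comm]; exact Submodule.smul_mem _ r h

theorem length_quot_ne_top_of_pow {M : Type u} [AddCommGroup M] [Module A M] [Module.Finite A M] (N : ℕ)
    (h : ∀ x : M, c ^ N • x = 0) : Module.length A M ≠ ⊤ := by
  obtain ⟨n, f, hf⟩ := Module.Finite.exists_fin' A M
  let T := (Fin n → A) ⧸ Submodule.pi Set.univ (fun _ : Fin n => (Ideal.span {c ^ N} : Submodule A A))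
  have hle : Submodule.pi Set.univ (fun _ : Fin n => (Ideal.span {c ^ N} : Submodule A A)) ≤ LinearMap.ker f := by
    intro v hv
    have : ∀ i, ∃ w, w * c ^ N = v i := fun i => Ideal.mem_span_singleton'.1 (hv i trivial)
    choose w hw using this
    rw [LinearMap.mem_ker, show v = c ^ N • w from funext fun i => by simp [← hw i, mul_comm], map_smul, h]
  refine (lt_of_le_of_lt (Module.length_le_of_surjective (Submodule.liftQ _ f hle) ?_) ?_).ne
  · intro x
    obtain ⟨v, rfl⟩ := hf x
    exact ⟨Submodule.Quotient.mk v, rfl⟩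
  · rw [LinearEquiv.length_eq (Submodule.quotientPi fun _ : Fin n => (Ideal.span {c ^ N} : Submodule A A)),
      Module.length_pi_of_fintype]
    exact Finset.sum_induction _ (fun x => x < ⊤) (fun _ _ hx hy => WithTop.add_lt_top.2 ⟨hx, hy⟩) (by simp)
      fun _ _ => (Ring.ord_lt_top (pow_mem hc N))

/-- Two lattices containing `1` have comparable quotient lengths. -/
theorem length_quot_eq_of_le {P P' : Submodule A (L c)} (hP' : P'.FG) (hle : P ≤ P')
    (h1 : ∃ N : ℕ, algebraMap A (L c) (c ^ N) ∈ P) (x : L c) (hxu : IsUnit x)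
    (hx : ∀ p ∈ P, x * p ∈ P) (hx' : ∀ p ∈ P', x * p ∈ P') :
    Module.length A (P' ⧸ LinearMap.range ((LinearMap.mulLeft A x).restrict hx')) =
      Module.length A (P ⧸ LinearMap.range ((LinearMap.mulLeft A x).restrict hx)) := by
  have : Module.Finite A P' := Module.Finite.iff_fg.2 hP'
  refine length_quot_range_eq (Submodule.inclusion hle) (Submodule.inclusion_injective hle) _ _ ?_
    (LinearMap.ext fun p => rfl) ?_
  · intro p q e
    exact Subtype.ext (hxu.mul_left_cancel (congrArg Subtype.val e))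
  · obtain ⟨N, hN⟩ := exists_pow_smul_mem hc P' hP'
    obtain ⟨k, hk⟩ := h1
    refine length_quot_ne_top_of_pow hc (k + N) fun z => ?_
    obtain ⟨⟨p, hp⟩, rfl⟩ := Submodule.Quotient.mk_surjective _ z
    rw [← Submodule.Quotient.mk_smul, Submodule.Quotient.mk_eq_zero]
    obtain ⟨a, ha⟩ := hN p hp
    refine ⟨⟨c ^ (k + N) • p, ?_⟩, rfl⟩
    rw [pow_add, mul_smul, ← ha, Algebra.linearMap_apply, Algebra.smul_def, mul_comm, ← Algebra.smul_def]
    exact P.smul_mem a hk

/-- The length of `B / xB` does not depend on the lattice. -/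
theorem qlen_inclusion {B B' : Subalgebra A (L c)} (h : B ≤ B') (hB' : B'.toSubmodule.FG) (x : B)
    (hx : IsUnit (x : L c)) : qlen A (Subalgebra.inclusion h x) = qlen A x :=
  length_quot_eq_of_le hc hB' (P := B.toSubmodule) h ⟨0, B.algebraMap_mem _⟩ (x : L c) hx
    (fun p hp => B.mul_mem x.2 hp) (fun p hp => B'.mul_mem (h x.2) hp)

theorem qlen_algebraMap {B : Subalgebra A (L c)} (hB : B.toSubmodule.FG) {a : A}
    (ha : IsUnit (algebraMap A (L c) a)) : qlen A (algebraMap A B a) = Ring.ord A a := by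
  let B₀ : Subalgebra A (L c) := ⊥
  have h0 := qlen_inclusion hc (bot_le (a := B)) hB (algebraMap A B₀ a) ha
  rw [AlgHom.commutes] at h0
  rw [h0]
  let e : A ≃ₗ[A] B₀ := LinearEquiv.ofBijective (Algebra.linearMap A B₀) ⟨fun x y e => injective_algebraMap hc (congrArg Subtype.val e),
    fun ⟨z, hz⟩ => by obtain ⟨x, rfl⟩ := Algebra.mem_bot.1 hz; exact ⟨x, rfl⟩⟩
  have he : ∀ v, (e v : L c) = algebraMap A (L c) v := fun v => rfl
  refine (LinearEquiv.length_eq (Submodule.Quotient.equiv _ _ e ?_)).symm
  ext z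
  constructor
  · rintro ⟨w, hw, rfl⟩
    obtain ⟨v, rfl⟩ := Ideal.mem_span_singleton'.1 hw
    exact ⟨e v, Subtype.ext (by change algebraMap A (L c) a * (e v : L c) = (e (v * a) : L c); rw [he, he, map_mul, mul_comm])⟩
  · rintro ⟨w, rfl⟩
    obtain ⟨v, rfl⟩ := e.surjective w
    exact ⟨a * v, Ideal.mul_mem_right _ _ (Ideal.mem_span_singleton_self a), Subtype.ext (by change (e (a * v) : L c) = algebraMap A (L c) a * (e v : L c); rw [he, he, map_mul])⟩

theorem isFinExt (hcm : c ∈ maximalIdeal A) {B : Subalgebra A (L c)} (hB : B.toSubmodule.FG) :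
    CycAlg.IsFinExt A B (maximalIdeal A) := by
  refine ⟨fun x y e => injective_algebraMap hc (congrArg Subtype.val e), Module.Finite.iff_fg.2 hB, ?_⟩
  obtain ⟨N, hN⟩ := exists_pow_smul_mem hc B.toSubmodule hB
  have : IsFiniteLength A (A ⧸ Ideal.span {c ^ N}) := Module.length_ne_top_iff.1 (Ring.ord_ne_top (pow_mem hc N))
  have hart : IsArtinianRing (A ⧸ Ideal.span {c ^ N}) :=
    have := (isFiniteLength_iff_isNoetherian_isArtinian.1 this).2
    isArtinian_of_tower A inferInstance
  obtain ⟨n, hn⟩ := (IsArtinianRing.isNilpotent_jacobson_bot (R := A ⧸ Ideal.span {c ^ N}))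
  refine ⟨n, fun r hr b => ?_⟩
  have hrc : r ∈ Ideal.span {c ^ N} := by
    rcases eq_or_ne (Ideal.span {c ^ N}) ⊤ with h | h
    · rw [h]; trivial
    rw [← Ideal.Quotient.eq_zero_iff_mem]
    have : Ideal.map (Ideal.Quotient.mk (Ideal.span {c ^ N})) (maximalIdeal A) ≤ (⊥ : Ideal (A ⧸ Ideal.span {c ^ N})).jacobson := by
      refine le_sInf fun J ⟨_, hJ⟩ => ?_
      rw [Ideal.map_le_iff_le_comap]
      exact (eq_maximalIdeal (Ideal.comap_isMaximal_of_surjective _ Ideal.Quotient.mk_surjective (H := hJ))).ge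
    have := Ideal.pow_right_mono this n (by rw [← Ideal.map_pow]; exact Ideal.mem_map_of_mem _ hr)
    rwa [hn, Submodule.zero_eq_bot, Submodule.mem_bot] at this
  obtain ⟨s, rfl⟩ := Ideal.mem_span_singleton'.1 hrc
  obtain ⟨a, ha⟩ := hN b b.2
  refine ⟨s * a, Subtype.ext ?_⟩
  change algebraMap A (L c) (s * a) = (s * c ^ N) • (b : L c)
  rw [mul_smul, ← ha, Algebra.linearMap_apply, map_mul, Algebra.smul_def]

end Groth.Agent.Lib.Tame.Lattice
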