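import Groth.Agent.Lib.Tame.Value

/-!
# The tame symbol is well defined
-/

set_option autoImplicit false

universe u

open IsLocalRing

namespace Groth.Agent.Lib.Tame.WellDef

open Value

variable {A : Type u} [CommRing A] [IsLocalRing A] {a b : A}

/-- The factorisation at a closed point of some tame data. -/
noncomputable def facOf (D : CycAlg.TameData A a b) (q : MaximalSpectrum D.B) :
    Fac (Localization.AtPrime q.asIdeal) (algebraMap A _ a) (algebraMap A _ b) :=
  ⟨D.π q, D.π_mem q, D.u₁ q, D.u₂ q, D.e₁ q, D.e₂ q, D.fac₁ q, D.fac₂ q⟩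

theorem localFactor_eq (D : CycAlg.TameData A a b) (q : MaximalSpectrum D.B) :
    haveI := D.isFinExt.2.1
    D.localFactor q = nrm q (facOf D q).val := by
  have := D.isFinExt.2.1
  rw [Fac.val, nrm_pow]
  rfl

theorem value_eq_finprod (D : CycAlg.TameData A a b) :
    haveI := D.isFinExt.2.1
    D.value = ∏ᶠ q, nrm q (facOf D q).val :=
  finprod_congr (localFactor_eq D)

theorem value_of_isUnit (D : CycAlg.TameData A a b) (ha : IsUnit a) (hb : IsUnit b) : D.value = 1 := by
  have := D.isFinExt.2.1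
  rw [value_eq_finprod]
  refine finprod_eq_one_of_forall_eq_one fun q => ?_
  rw [(facOf D q).val_of_isUnit (ha.map _) (hb.map _), nrm_one]

theorem mem_maximalIdeal_mul (h : ¬(IsUnit a ∧ IsUnit b)) : a * b ∈ maximalIdeal A :=
  fun hu => h ⟨isUnit_of_mul_isUnit_left hu, isUnit_of_mul_isUnit_right hu⟩

variable [IsNoetherianRing A] [Ring.KrullDimLE 1 A]

/-- Tame data embed into `A[1/ab]`. -/
theorem exists_embedding (D : CycAlg.TameData A a b) (ha : a ∈ nonZeroDivisors A) (hb : b ∈ nonZeroDivisors A)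
    (hab : a * b ∈ maximalIdeal A) : ∃ ψ : D.B →ₐ[A] Lattice.L (a * b), Function.Injective ψ := by
  have := D.isFinExt.2.1
  obtain ⟨hinj, -, n, hn⟩ := D.isFinExt
  choose α hα using fun x : D.B => hn ((a * b) ^ n) (Ideal.pow_mem_pow hab n) x
  have hreg : algebraMap A D.B ((a * b) ^ n) ∈ nonZeroDivisors D.B := mem_nonZeroDivisors_of_local fun q => by
    rw [← IsScalarTower.algebraMap_apply, map_pow, map_mul]
    exact pow_mem (mul_mem (facOf D q).mem_left (facOf D q).mem_right) n
  obtain ⟨U, hU⟩ : IsUnit (algebraMap A (Lattice.L (a * b)) ((a * b) ^ n)) := by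
    rw [map_pow]; exact (IsLocalization.Away.algebraMap_isUnit (a * b)).pow n
  set ι := algebraMap A (Lattice.L (a * b))
  have hι : Function.Injective ι := Lattice.injective_algebraMap (mul_mem ha hb)
  have h1 : ∀ r : A, α (algebraMap A D.B r) = r * (a * b) ^ n := fun r => hinj (by
    rw [hα, Algebra.smul_def, map_mul, mul_comm])
  have hadd : ∀ x y, α (x + y) = α x + α y := fun x y => hinj (by rw [hα, map_add, hα, hα, smul_add])
  have hmul : ∀ x y, α x * α y = α (x * y) * (a * b) ^ n := fun x y => hinj (by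
    rw [map_mul, map_mul, hα, hα, hα, Algebra.smul_def, Algebra.smul_def, Algebra.smul_def]
    ring)
  let f : D.B →+* Lattice.L (a * b) :=
    { toFun := fun x => ι (α x) * ↑U⁻¹
      map_one' := by rw [← map_one (algebraMap A D.B), h1, one_mul, ← hU, Units.mul_inv]
      map_mul' := fun x y => by
        rw [show ι (α x) * ↑U⁻¹ * (ι (α y) * ↑U⁻¹) = ι (α x) * ι (α y) * ↑U⁻¹ * ↑U⁻¹ by ring,
          ← map_mul, hmul, map_mul, ← hU, mul_assoc (ι (α (x * y))), Units.mul_inv, mul_one]
      map_zero' := by rw [← map_zero (algebraMap A D.B), h1, zero_mul, map_zero, zero_mul]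
      map_add' := fun x y => by rw [hadd, map_add, add_mul] }
  refine ⟨AlgHom.mk f fun r => ?_, fun x y e => ?_⟩
  · change ι (α (algebraMap A D.B r)) * ↑U⁻¹ = ι r
    rw [h1, map_mul, ← hU, mul_assoc, Units.mul_inv, mul_one]
  · change ι (α x) * ↑U⁻¹ = ι (α y) * ↑U⁻¹ at e
    have e' : α x = α y := hι (mul_right_cancel₀' U⁻¹ e)
    refine (mul_cancel_left_mem_nonZeroDivisors hreg).1 ?_
    rw [← Algebra.smul_def, ← Algebra.smul_def, ← hα, ← hα, e']
where
  mul_right_cancel₀' {R : Type u} [CommRing R] (u : Rˣ) {x y : R} (e : x * u = y * u) : x = y :=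
    u.isUnit.mul_right_cancel e

theorem range_fg (D : CycAlg.TameData A a b) (ψ : D.B →ₐ[A] Lattice.L (a * b)) :
    ψ.range.toSubmodule.FG := by
  have := D.isFinExt.2.1
  have h : ψ.range.toSubmodule = LinearMap.range ψ.toLinearMap := by ext; rfl
  rw [h, LinearMap.range_eq_map]
  exact Module.Finite.fg_top.map _

/-- The value of tame data can be computed in any larger lattice. -/
theorem value_eq_of_le (D : CycAlg.TameData A a b) (ha : a ∈ nonZeroDivisors A) (hb : b ∈ nonZeroDivisors A)
    (hab : a * b ∈ maximalIdeal A) (ψ : D.B →ₐ[A] Lattice.L (a * b)) (hψ : Function.Injective ψ)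
    (B' : Subalgebra A (Lattice.L (a * b))) [Module.Finite A B'] (hle : ψ.range ≤ B')
    (G : ∀ k : MaximalSpectrum B', Fac (Localization.AtPrime k.asIdeal) (algebraMap A _ a) (algebraMap A _ b)) :
    D.value = ∏ᶠ k, nrm k (G k).val := by
  classical
  have := D.isFinExt.2.1
  have := Lattice.finite_maximalSpectrum A D.B
  have := Lattice.finite_maximalSpectrum A B'
  have := Fintype.ofFinite (MaximalSpectrum D.B)
  have := Fintype.ofFinite (MaximalSpectrum B')
  let φ : D.B →ₐ[A] B' := (Subalgebra.inclusion hle).comp ψ.rangeRestrict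
  let := φ.toRingHom.toAlgebra
  have : IsScalarTower A D.B B' := IsScalarTower.of_algebraMap_eq fun r => (φ.commutes r).symm
  have hinj : Function.Injective (algebraMap D.B B') := fun x y e => hψ (congrArg Subtype.val e)
  have : Module.Finite D.B B' := Module.Finite.of_restrictScalars_finite A D.B B'
  let cm : MaximalSpectrum B' → MaximalSpectrum D.B := fun k =>
    ⟨k.asIdeal.comap (algebraMap D.B B'), Ideal.isMaximal_comap_of_isIntegral_of_isMaximal k.asIdeal⟩
  rw [value_eq_finprod, finprod_eq_prod_of_fintype, finprod_eq_prod_of_fintype,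
    ← Finset.prod_fiberwise Finset.univ cm fun k => nrm (A := A) k (G k).val]
  refine Finset.prod_congr rfl fun j _ => ?_
  rw [← prod_nrm_eq hinj (Lattice.isFinExt (mul_mem ha hb) hab (Module.Finite.iff_fg.1 ‹Module.Finite A B'›))
    ha hb hab G j (facOf D j)]
  refine Finset.prod_congr (Finset.filter_congr fun k _ => ?_) fun _ _ => rfl
  exact ⟨fun h => MaximalSpectrum.ext h, fun h => congrArg MaximalSpectrum.asIdeal h⟩

/-- The factorisations produced by `exists_factorizations`. -/
theorem exists_fac {c : A} (hc : c ∈ nonZeroDivisors A) (hcm : c ∈ maximalIdeal A)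
    {B : Subalgebra A (Lattice.L c)} (hB : B.toSubmodule.FG) (S : Finset A)
    (hS : ∀ s ∈ S, IsUnit (algebraMap A (Lattice.L c) s)) :
    ∃ B' : Subalgebra A (Lattice.L c), B ≤ B' ∧ B'.toSubmodule.FG ∧ ∀ q : MaximalSpectrum B',
      ∃ π : Localization.AtPrime q.asIdeal, π ∈ nonZeroDivisors (Localization.AtPrime q.asIdeal) ∧
        ∀ s ∈ S, ∃ (v : (Localization.AtPrime q.asIdeal)ˣ) (e : ℕ),
          algebraMap A (Localization.AtPrime q.asIdeal) s = v * π ^ e := by
  classical
  obtain ⟨B', h, hB', hfac⟩ := Exist.exists_factorizations hc hcm hB (S.image (algebraMap A (Lattice.L c)))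
    (fun s hs => by obtain ⟨i, -, rfl⟩ := Finset.mem_image.1 hs; exact B.algebraMap_mem _)
    (fun s hs => by obtain ⟨i, hi, rfl⟩ := Finset.mem_image.1 hs; exact hS i hi)
  refine ⟨B', h, hB', fun q => ?_⟩
  obtain ⟨π, hπ, hx⟩ := hfac q
  refine ⟨π, hπ, fun s hs => ?_⟩
  obtain ⟨v, e, he⟩ := hx (algebraMap A B s) (Finset.mem_image.2 ⟨s, hs, rfl⟩)
  exact ⟨v, e, by rw [← he, IsScalarTower.algebraMap_apply A B' (Localization.AtPrime q.asIdeal)]; rfl⟩

/-- The value does not depend on the data. -/
theorem value_eq (D D' : CycAlg.TameData A a b) (ha : a ∈ nonZeroDivisors A) (hb : b ∈ nonZeroDivisors A) :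
    D.value = D'.value := by
  classical
  by_cases h : IsUnit a ∧ IsUnit b
  · rw [value_of_isUnit D h.1 h.2, value_of_isUnit D' h.1 h.2]
  · have hab := mem_maximalIdeal_mul h
    obtain ⟨ψ, hψ⟩ := exists_embedding D ha hb hab
    obtain ⟨ψ', hψ'⟩ := exists_embedding D' ha hb hab
    have hfg : (ψ.range ⊔ ψ'.range).toSubmodule.FG := by
      rw [← Subalgebra.mul_toSubmodule]
      exact (range_fg D ψ).mul (range_fg D' ψ')
    obtain ⟨B', hle, hB', hfac⟩ := exists_fac (mul_mem ha hb) hab hfg {a, b} (fun s hs => by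
      rcases Finset.mem_insert.1 hs with rfl | hs
      · exact Exist.isUnit_of_dvd (dvd_mul_right _ _)
      · rw [Finset.mem_singleton.1 hs]; exact Exist.isUnit_of_dvd (dvd_mul_left _ _))
    have : Module.Finite A B' := Module.Finite.iff_fg.2 hB'
    have hG : ∀ k : MaximalSpectrum B',
        Nonempty (Fac (Localization.AtPrime k.asIdeal) (algebraMap A _ a) (algebraMap A _ b)) := fun k => by
      obtain ⟨π, hπ, hs⟩ := hfac k
      obtain ⟨v, e, he⟩ := hs a (by simp)
      obtain ⟨w, f, hf⟩ := hs b (by simp)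
      exact ⟨⟨π, hπ, v, w, e, f, he, hf⟩⟩
    rw [value_eq_of_le D ha hb hab ψ hψ B' (le_sup_left.trans hle) fun k => (hG k).some,
      value_eq_of_le D' ha hb hab ψ' hψ' B' (le_sup_right.trans hle) fun k => (hG k).some]

/-- Any choice of data computes the tame symbol. -/
theorem tameSymbol_eq (D : CycAlg.TameData A a b) (ha : a ∈ nonZeroDivisors A) (hb : b ∈ nonZeroDivisors A) :
    CycAlg.tameSymbol A a b = D.value := by
  rw [CycAlg.tameSymbol, dif_pos ⟨D⟩]
  exact value_eq _ D ha hb

end Groth.Agent.Lib.Tame.WellDef
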